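/-
Alternating forms over an arbitrary field: symplectic transvections, Witt's extension lemma by a product of
transvections (hence generation of the isometry group and transitivity), and symplectic bases.
-/
import Mathlib
import Cfsg.Agent.Lib.Forms.Witt

set_option autoImplicit false

namespace CfsgLib.Sp

open LinearMap (BilinForm)

variable {F V : Type*} [Field F] [AddCommGroup V] [Module F V]

/-- The isometry group of a bilinear form. -/
def isom (B : BilinForm F V) : Subgroup (V ≃ₗ[F] V) where
  carrier := {g | ∀ u v, B (g u) (g v) = B u v}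
  one_mem' := fun _ _ => rfl
  mul_mem' {a b} ha hb := fun u v => by
    simpa only [LinearEquiv.mul_apply] using (ha (b u) (b v)).trans (hb u v)
  inv_mem' {a} ha := fun u v => by
    have h := ha (a.symm u) (a.symm v)
    simp only [LinearEquiv.apply_symm_apply] at h
    exact h.symm

theorem mem_isom {B : BilinForm F V} {g : V ≃ₗ[F] V} : g ∈ isom B ↔ ∀ u v, B (g u) (g v) = B u v :=
  Iff.rfl

/-- The transvection `x ↦ x + c B(x, v) v`. -/
def tvec (B : BilinForm F V) (hA : B.IsAlt) (v : V) (c : F) : V ≃ₗ[F] V where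
  toFun x := x + (c * B x v) • v
  map_add' x y := by
    simp only [map_add, LinearMap.add_apply, mul_add, add_smul]; abel
  map_smul' a x := by
    simp only [map_smul, LinearMap.smul_apply, smul_eq_mul, RingHom.id_apply, smul_add, smul_smul]
    ring_nf
  invFun x := x + (-c * B x v) • v
  left_inv x := by
    simp only [map_add, map_smul, LinearMap.add_apply, LinearMap.smul_apply, hA.self_eq_zero v]
    rw [add_assoc, ← add_smul]
    simp
  right_inv x := by
    simp only [map_add, map_smul, LinearMap.add_apply, LinearMap.smul_apply, hA.self_eq_zero v]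
    rw [add_assoc, ← add_smul]
    simp

variable {B : BilinForm F V} {hA : B.IsAlt}

theorem alt_flip (hA : B.IsAlt) (x y : V) : B y x = -B x y := (LinearMap.IsAlt.neg hA x y).symm

@[simp] theorem tvec_apply (v : V) (c : F) (x : V) : tvec B hA v c x = x + (c * B x v) • v := rfl

theorem tvec_mul (v : V) (c d : F) : tvec B hA v c * tvec B hA v d = tvec B hA v (c + d) := by
  ext x
  simp only [LinearEquiv.mul_apply, tvec_apply, map_add, map_smul, LinearMap.add_apply,
    LinearMap.smul_apply, hA.self_eq_zero v, smul_eq_mul, mul_zero, add_zero]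
  module

@[simp] theorem tvec_zero (v : V) : tvec B hA v 0 = 1 := by
  ext x; simp

theorem tvec_inv (v : V) (c : F) : (tvec B hA v c)⁻¹ = tvec B hA v (-c) :=
  inv_eq_of_mul_eq_one_right (by rw [tvec_mul, add_neg_cancel, tvec_zero])

theorem tvec_smul (v : V) (a c : F) : tvec B hA (a • v) c = tvec B hA v (c * a * a) := by
  ext x; simp [smul_smul]; ring_nf

theorem tvec_mem_isom (v : V) (c : F) : tvec B hA v c ∈ isom B := fun x y => by
  simp only [tvec_apply, map_add, map_smul, LinearMap.add_apply, LinearMap.smul_apply,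
    hA.self_eq_zero v, smul_eq_mul, alt_flip hA y v]
  ring

theorem conj_tvec (g : V ≃ₗ[F] V) (hg : g ∈ isom B) (v : V) (c : F) :
    g * tvec B hA v c * g⁻¹ = tvec B hA (g v) c := by
  ext x
  simp only [LinearEquiv.mul_apply, tvec_apply, map_add, map_smul]
  have h1 : g (g⁻¹ x) = x := g.apply_symm_apply x
  rw [h1]
  congr 3
  rw [← hg, h1]

/-- The subgroup generated by all transvections. -/
def transvGroup (B : BilinForm F V) (hA : B.IsAlt) : Subgroup (V ≃ₗ[F] V) :=
  Subgroup.closure {g | ∃ v c, g = tvec B hA v c}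

theorem tvec_mem_transvGroup (v : V) (c : F) : tvec B hA v c ∈ transvGroup B hA :=
  Subgroup.subset_closure ⟨v, c, rfl⟩

theorem transvGroup_le_isom : transvGroup B hA ≤ isom B := by
  rw [transvGroup, Subgroup.closure_le]
  rintro g ⟨v, c, rfl⟩; exact tvec_mem_isom v c

/-- A transvection moving `z` to `t` when `B z t ≠ 0`, fixing what is orthogonal to `t - z`. -/
theorem tvec_move (z t : V) (h : B z t ≠ 0) : tvec B hA (t - z) (B z t)⁻¹ z = t := by
  simp [hA.self_eq_zero, h]

/-- One step: moving `z` to `t` by transvections, fixing a family `y`. -/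
theorem witt_step (hB : B.SeparatingLeft) {n : ℕ} (y : Fin n → V) (z t : V)
    (hz : z ∉ Submodule.span F (Set.range y)) (ht : t ∉ Submodule.span F (Set.range y))
    (hy : ∀ i, B (y i) z = B (y i) t) :
    ∃ g ∈ transvGroup B hA, g z = t ∧ ∀ i, g (y i) = y i := by
  by_cases h : B z t = 0
  · obtain ⟨p₁, hp₁, hz1⟩ :=
      CfsgLib.Forms.exists_orth_pair_one (σ := RingHom.id F) Function.surjective_id B hB y z hz
    obtain ⟨p₂, hp₂, ht1⟩ :=
      CfsgLib.Forms.exists_orth_pair_one (σ := RingHom.id F) Function.surjective_id B hB y t ht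
    obtain ⟨p, hp, hzp, htp⟩ : ∃ p, (∀ i, B (y i) p = 0) ∧ B z p ≠ 0 ∧ B t p ≠ 0 := by
      by_cases h1 : B t p₁ = 0
      · by_cases h2 : B z p₂ = 0
        · exact ⟨p₁ + p₂, fun i => by simp [hp₁ i, hp₂ i], by simp [hz1, h2], by simp [h1, ht1]⟩
        · exact ⟨p₂, hp₂, h2, by simp [ht1]⟩
      · exact ⟨p₁, hp₁, by simp [hz1], h1⟩
    have e1 : B z (z + p) ≠ 0 := by simp [hA.self_eq_zero, hzp]
    have e2 : B (z + p) t ≠ 0 := by simpa [h, alt_flip hA t p] using htp
    refine ⟨tvec B hA (t - (z + p)) (B (z + p) t)⁻¹ * tvec B hA ((z + p) - z) (B z (z + p))⁻¹,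
      mul_mem (tvec_mem_transvGroup _ _) (tvec_mem_transvGroup _ _), ?_, fun i => ?_⟩
    · rw [LinearEquiv.mul_apply, tvec_move z (z + p) e1, tvec_move _ t e2]
    · simp [hp i, hy i]
  · exact ⟨tvec B hA (t - z) (B z t)⁻¹, tvec_mem_transvGroup _ _, tvec_move z t h,
      fun i => by simp [hy i]⟩

/-- Witt's lemma on families: two linearly independent families with equal Gram matrices are related by a
product of transvections. -/
theorem witt_family (hA : B.IsAlt) (hB : B.SeparatingLeft) :
    ∀ {n : ℕ} (x y : Fin n → V), LinearIndependent F x → LinearIndependent F y →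
      (∀ i j, B (x i) (x j) = B (y i) (y j)) →
      ∃ g ∈ transvGroup B hA, ∀ i, g (x i) = y i := by
  intro n
  induction n with
  | zero => exact fun x y _ _ _ => ⟨1, one_mem _, fun i => i.elim0⟩
  | succ n ih =>
    intro x y hx hy hp
    obtain ⟨g, hg, hgx⟩ := ih (fun i => x i.castSucc) (fun i => y i.castSucc)
      (hx.comp _ (Fin.castSucc_injective n)) (hy.comp _ (Fin.castSucc_injective n)) (fun i j => hp _ _)
    have hgz : g (x (Fin.last n)) ∉ Submodule.span F (Set.range fun i : Fin n => y i.castSucc) := by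
      have := CfsgLib.Forms.notMem_span_of_linearIndependent (fun i => g (x i))
        (hx.map' g.toLinearMap (LinearEquiv.ker g))
      simpa only [hgx] using this
    obtain ⟨h, hh, hhz, hhy⟩ := witt_step (hA := hA) hB (fun i => y i.castSucc) (g (x (Fin.last n)))
      (y (Fin.last n)) hgz (CfsgLib.Forms.notMem_span_of_linearIndependent y hy)
      (fun i => by
        have h1 : g (x i.castSucc) = y i.castSucc := hgx i
        rw [← h1, transvGroup_le_isom hg, hp, ← h1, hgx i])
    refine ⟨h * g, mul_mem hh hg, Fin.lastCases (by simpa using hhz) fun i => ?_⟩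
    simp [hgx i, hhy i]

/-- Witt's lemma for alternating forms, with a product of transvections as the extension. -/
theorem witt_extension [FiniteDimensional F V] (hA : B.IsAlt) (hB : B.SeparatingLeft) (X : Submodule F V)
    (φ : X →ₗ[F] V) (hinj : Function.Injective φ)
    (hφ : ∀ x x' : X, B (φ x) (φ x') = B (x : V) (x' : V)) :
    ∃ g ∈ transvGroup B hA, ∀ x : X, g (x : V) = φ x := by
  let b := Module.finBasis F X
  obtain ⟨g, hg, hgb⟩ := witt_family hA hB (fun i => (b i : V)) (fun i => φ (b i))
    (b.linearIndependent.map' X.subtype (Submodule.ker_subtype X))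
    (b.linearIndependent.map' φ (LinearMap.ker_eq_bot.mpr hinj))
    (fun i j => (hφ _ _).symm)
  refine ⟨g, hg, fun x => ?_⟩
  have : g.toLinearMap.comp X.subtype = φ := b.ext fun i => hgb i
  exact congrArg (fun L : X →ₗ[F] V => L x) this

/-- The isometry group is generated by transvections. -/
theorem isom_eq_transvGroup [FiniteDimensional F V] (hA : B.IsAlt) (hB : B.SeparatingLeft) :
    isom B = transvGroup B hA := by
  refine le_antisymm (fun g hg => ?_) transvGroup_le_isom
  obtain ⟨t, ht, hgt⟩ := witt_extension hA hB ⊤ (g.toLinearMap.comp (⊤ : Submodule F V).subtype)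
    (g.injective.comp Subtype.val_injective) (fun x x' => hg _ _)
  have : t = g := LinearEquiv.ext fun v => hgt ⟨v, trivial⟩
  rwa [← this]

/-- Two pairs with pairing `1` are related by a product of transvections. -/
theorem transitive_hyperbolic (hA : B.IsAlt) (hB : B.SeparatingLeft) (u v u' v' : V)
    (h : B u v = 1) (h' : B u' v' = 1) : ∃ g ∈ transvGroup B hA, g u = u' ∧ g v = v' := by
  have ind : ∀ a b : V, B a b = 1 → LinearIndependent F ![a, b] := fun a b hab => by
    rw [linearIndependent_fin2]
    refine ⟨fun hb => by simp at hb; simp [hb] at hab, fun s hs => ?_⟩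
    simp at hs; rw [← hs] at hab; simp [hA.self_eq_zero] at hab
  obtain ⟨g, hg, hgx⟩ := witt_family hA hB ![u, v] ![u', v'] (ind u v h) (ind u' v' h')
    (fun i j => by
      fin_cases i <;> fin_cases j <;>
        simp [hA.self_eq_zero, h, h', alt_flip hA u v, alt_flip hA u' v'])
  exact ⟨g, hg, hgx 0, hgx 1⟩

/-- Transitivity on non-zero vectors. -/
theorem transitive_ne_zero (hA : B.IsAlt) (hB : B.SeparatingLeft) (u u' : V) (hu : u ≠ 0) (hu' : u' ≠ 0) :
    ∃ g ∈ transvGroup B hA, g u = u' := by
  obtain ⟨g, hg, hgx⟩ := witt_family hA hB ![u] ![u']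
    (LinearIndependent.of_subsingleton 0 hu)
    (LinearIndependent.of_subsingleton 0 hu')
    (fun i j => by fin_cases i; fin_cases j; simp [hA.self_eq_zero])
  exact ⟨g, hg, hgx 0⟩

end CfsgLib.Sp
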