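/-
The symplectic matrix group as the isometry group of `Cfsg.sympForm`: generation by transvections, Witt's lemma,
transitivity and the centre.
-/
import Mathlib
import Cfsg.Prelude.Def_ClassicalGeometry
import Cfsg.Agent.Lib.Sp.Witt

set_option autoImplicit false

namespace CfsgLib.Sp

open Cfsg Matrix
open LinearMap (BilinForm)

variable {F : Type*} [Field F] {m : ℕ}

/-- `sympForm` as a bilinear form. -/
noncomputable def sympBilin (m : ℕ) (F : Type*) [Field F] : BilinForm F (Fin m ⊕ Fin m → F) :=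
  Matrix.toBilin' (Matrix.J (Fin m) F)

theorem sympBilin_apply (u v : Fin m ⊕ Fin m → F) : sympBilin m F u v = sympForm m F u v :=
  Matrix.toBilin'_apply' _ u v

theorem sympForm_eq_sum (u v : Fin m ⊕ Fin m → F) :
    sympForm m F u v = ∑ i, (u (.inr i) * v (.inl i) - u (.inl i) * v (.inr i)) := by
  simp only [sympForm, dotProduct, Fintype.sum_sum_type, Matrix.J, fromBlocks_mulVec, Sum.elim_inl,
    Sum.elim_inr, zero_mulVec, zero_add, neg_mulVec, one_mulVec, add_zero, Pi.neg_apply,
    Function.comp_apply, mul_neg, ← Finset.sum_add_distrib]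
  exact Finset.sum_congr rfl fun i _ => by ring

theorem sympForm_self (v : Fin m ⊕ Fin m → F) : sympForm m F v v = 0 := by
  rw [sympForm_eq_sum]
  exact Finset.sum_eq_zero fun i _ => by ring

theorem sympBilin_isAlt : (sympBilin m F).IsAlt := fun v => by
  rw [sympBilin_apply]; exact sympForm_self v

theorem sympBilin_nondegenerate : (sympBilin m F).Nondegenerate :=
  LinearMap.BilinForm.nondegenerate_toBilin'_of_det_ne_zero' _
    (Matrix.isUnit_det_J (Fin m) F).ne_zero

theorem sympBilin_separatingLeft : LinearMap.SeparatingLeft (sympBilin m F) :=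
  sympBilin_nondegenerate.1

theorem sympForm_flip (u v : Fin m ⊕ Fin m → F) : sympForm m F v u = -sympForm m F u v := by
  rw [← sympBilin_apply, ← sympBilin_apply]; exact alt_flip sympBilin_isAlt u v

/-- A matrix is symplectic iff it preserves `sympForm`. -/
theorem mem_symplecticGroup_iff {A : Matrix (Fin m ⊕ Fin m) (Fin m ⊕ Fin m) F} :
    A ∈ symplecticGroup (Fin m) F ↔ ∀ u v, sympForm m F (A *ᵥ u) (A *ᵥ v) = sympForm m F u v := by
  have key : ∀ u v, sympForm m F (A *ᵥ u) (A *ᵥ v)
      = Matrix.toBilin' (Aᵀ * J (Fin m) F * A) u v := fun u v => by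
    rw [Matrix.toBilin'_apply', sympForm, ← mulVec_mulVec, ← mulVec_mulVec, dotProduct_mulVec u Aᵀ,
      vecMul_transpose]
  rw [SymplecticGroup.mem_iff']
  constructor
  · intro h u v
    rw [key, h, Matrix.toBilin'_apply', sympForm]
  · intro h
    apply (Matrix.toBilin' (n := Fin m ⊕ Fin m) (R₁ := F)).injective
    refine LinearMap.ext fun u => LinearMap.ext fun v => ?_
    rw [← key, h, Matrix.toBilin'_apply', sympForm]

theorem sympForm_mulVec (A : symplecticGroup (Fin m) F) (u v : Fin m ⊕ Fin m → F) :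
    sympForm m F (A.1 *ᵥ u) (A.1 *ᵥ v) = sympForm m F u v :=
  mem_symplecticGroup_iff.mp A.2 u v

/-- The linear automorphism of a symplectic matrix. -/
noncomputable def toEquiv (m : ℕ) (F : Type*) [Field F] :
    symplecticGroup (Fin m) F →* ((Fin m ⊕ Fin m → F) ≃ₗ[F] (Fin m ⊕ Fin m → F)) where
  toFun A :=
    { (Matrix.toLin' A.1) with
      invFun := fun v => (A⁻¹ : symplecticGroup (Fin m) F).1 *ᵥ v
      left_inv := fun v => by
        show _ *ᵥ (A.1 *ᵥ v) = v
        rw [mulVec_mulVec, ← Submonoid.coe_mul, inv_mul_cancel, Submonoid.coe_one, one_mulVec]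
      right_inv := fun v => by
        show A.1 *ᵥ (_ *ᵥ v) = v
        rw [mulVec_mulVec, ← Submonoid.coe_mul, mul_inv_cancel, Submonoid.coe_one, one_mulVec] }
  map_one' := LinearEquiv.ext fun v => one_mulVec v
  map_mul' A B := LinearEquiv.ext fun v => (mulVec_mulVec v A.1 B.1).symm

@[simp] theorem toEquiv_apply (A : symplecticGroup (Fin m) F) (v : Fin m ⊕ Fin m → F) :
    toEquiv m F A v = A.1 *ᵥ v := rfl

theorem toEquiv_injective : Function.Injective (toEquiv m F) := fun A B h =>
  Subtype.ext (Matrix.ext_of_mulVec_single fun j => LinearEquiv.congr_fun h (Pi.single j 1))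

theorem toEquiv_mem_isom (A : symplecticGroup (Fin m) F) : toEquiv m F A ∈ isom (sympBilin m F) :=
  fun u v => by simp only [toEquiv_apply, sympBilin_apply, sympForm_mulVec]

theorem exists_toEquiv_eq {g : (Fin m ⊕ Fin m → F) ≃ₗ[F] (Fin m ⊕ Fin m → F)}
    (hg : g ∈ isom (sympBilin m F)) : ∃ A : symplecticGroup (Fin m) F, toEquiv m F A = g := by
  refine ⟨⟨LinearMap.toMatrix' g.toLinearMap, ?_⟩, ?_⟩
  · rw [mem_symplecticGroup_iff]
    intro u v
    simp only [LinearMap.toMatrix'_mulVec, LinearEquiv.coe_coe, ← sympBilin_apply]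
    exact hg u v
  · refine LinearEquiv.ext fun v => ?_
    exact LinearMap.toMatrix'_mulVec g.toLinearMap v

theorem range_toEquiv : (toEquiv m F).range = isom (sympBilin m F) :=
  le_antisymm (by rintro _ ⟨A, rfl⟩; exact toEquiv_mem_isom A) fun _ hg => exists_toEquiv_eq hg

theorem sympTransvection_mulVec (v : Fin m ⊕ Fin m → F) (c : F) (x : Fin m ⊕ Fin m → F) :
    sympTransvection m v c *ᵥ x = x + (c * sympForm m F x v) • v := by
  rw [sympTransvection, add_mulVec, one_mulVec, smul_mulVec, vecMulVec_mulVec, op_smul_eq_smul,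
    smul_smul, dotProduct_comm]
  rfl

theorem sympTransvection_mem (v : Fin m ⊕ Fin m → F) (c : F) :
    sympTransvection m v c ∈ symplecticGroup (Fin m) F := by
  rw [mem_symplecticGroup_iff]
  intro x y
  have := tvec_mem_isom (B := sympBilin m F) (hA := sympBilin_isAlt) v c x y
  simp only [tvec_apply, sympBilin_apply] at this
  simpa only [sympTransvection_mulVec] using this

/-- A transvection as an element of the symplectic group. -/
def tmat (v : Fin m ⊕ Fin m → F) (c : F) : symplecticGroup (Fin m) F :=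
  ⟨sympTransvection m v c, sympTransvection_mem v c⟩

@[simp] theorem toEquiv_tmat (v : Fin m ⊕ Fin m → F) (c : F) :
    toEquiv m F (tmat v c) = tvec (sympBilin m F) sympBilin_isAlt v c :=
  LinearEquiv.ext fun x => by simp [tmat, sympTransvection_mulVec, sympBilin_apply]

theorem tmat_mul (v : Fin m ⊕ Fin m → F) (c d : F) : tmat v c * tmat v d = tmat v (c + d) :=
  toEquiv_injective (by rw [map_mul, toEquiv_tmat, toEquiv_tmat, toEquiv_tmat, tvec_mul])

@[simp] theorem tmat_zero (v : Fin m ⊕ Fin m → F) : tmat v (0 : F) = 1 :=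
  toEquiv_injective (by rw [toEquiv_tmat, tvec_zero, map_one])

theorem tmat_inv (v : Fin m ⊕ Fin m → F) (c : F) : (tmat v c)⁻¹ = tmat v (-c) :=
  inv_eq_of_mul_eq_one_right (by rw [tmat_mul, add_neg_cancel, tmat_zero])

theorem tmat_smul (v : Fin m ⊕ Fin m → F) (a c : F) : tmat (a • v) c = tmat v (c * a * a) :=
  toEquiv_injective (by rw [toEquiv_tmat, toEquiv_tmat, tvec_smul])

theorem conj_tmat (A : symplecticGroup (Fin m) F) (v : Fin m ⊕ Fin m → F) (c : F) :
    A * tmat v c * A⁻¹ = tmat (A.1 *ᵥ v) c :=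
  toEquiv_injective (by
    rw [map_mul, map_mul, map_inv, toEquiv_tmat, toEquiv_tmat, conj_tvec _ (toEquiv_mem_isom A)]
    rfl)

/-- The set of all transvections, as it appears in the statements. -/
def tSet (m : ℕ) (F : Type*) [Field F] : Set (symplecticGroup (Fin m) F) :=
  {A | ∃ (w : Fin m ⊕ Fin m → F) (c : F),
    (A : Matrix (Fin m ⊕ Fin m) (Fin m ⊕ Fin m) F) = sympTransvection m w c}

theorem tmat_mem_tSet (v : Fin m ⊕ Fin m → F) (c : F) : tmat v c ∈ tSet m F := ⟨v, c, rfl⟩

theorem closure_tSet : Subgroup.closure (tSet m F) = ⊤ := by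
  rw [eq_top_iff]
  intro A _
  have hA := toEquiv_mem_isom A
  rw [isom_eq_transvGroup sympBilin_isAlt sympBilin_separatingLeft] at hA
  have hle : transvGroup (sympBilin m F) sympBilin_isAlt
      ≤ (Subgroup.closure (tSet m F)).map (toEquiv m F) := by
    rw [transvGroup, Subgroup.closure_le]
    rintro _ ⟨v, c, rfl⟩
    exact ⟨tmat v c, Subgroup.subset_closure (tmat_mem_tSet v c), toEquiv_tmat v c⟩
  obtain ⟨B, hB, hAB⟩ := hle hA
  rwa [toEquiv_injective hAB] at hB

theorem closure_tmat :
    Subgroup.closure {A : symplecticGroup (Fin m) F | ∃ v c, A = tmat v c} = ⊤ := by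
  rw [eq_top_iff, ← closure_tSet]
  refine Subgroup.closure_mono ?_
  rintro A ⟨v, c, h⟩
  exact ⟨v, c, Subtype.ext h⟩

theorem le_of_tmat_mem {H : Subgroup (symplecticGroup (Fin m) F)} (h : ∀ v c, tmat v c ∈ H) : H = ⊤ := by
  rw [eq_top_iff, ← closure_tmat, Subgroup.closure_le]
  rintro _ ⟨v, c, rfl⟩
  exact h v c

/-- Witt's lemma for the symplectic matrix group. -/
theorem witt_matrix {n : ℕ} (x y : Fin n → Fin m ⊕ Fin m → F) (hx : LinearIndependent F x)
    (hy : LinearIndependent F y) (h : ∀ i j, sympForm m F (x i) (x j) = sympForm m F (y i) (y j)) :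
    ∃ A : symplecticGroup (Fin m) F, ∀ i, A.1 *ᵥ x i = y i := by
  obtain ⟨g, hg, hgx⟩ := witt_family sympBilin_isAlt (sympBilin_separatingLeft (F := F) (m := m)) x y hx hy
    (fun i j => by simp only [sympBilin_apply, h])
  obtain ⟨A, rfl⟩ := exists_toEquiv_eq (transvGroup_le_isom hg)
  exact ⟨A, hgx⟩

theorem transitive_hyperbolic_matrix (u v u' v' : Fin m ⊕ Fin m → F) (h : sympForm m F u v = 1)
    (h' : sympForm m F u' v' = 1) :
    ∃ A : symplecticGroup (Fin m) F, A.1 *ᵥ u = u' ∧ A.1 *ᵥ v = v' := by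
  obtain ⟨g, hg, h1, h2⟩ := transitive_hyperbolic sympBilin_isAlt (sympBilin_separatingLeft (F := F) (m := m))
    u v u' v' (by rwa [sympBilin_apply]) (by rwa [sympBilin_apply])
  obtain ⟨A, rfl⟩ := exists_toEquiv_eq (transvGroup_le_isom hg)
  exact ⟨A, h1, h2⟩

theorem transitive_ne_zero_matrix (u u' : Fin m ⊕ Fin m → F) (hu : u ≠ 0) (hu' : u' ≠ 0) :
    ∃ A : symplecticGroup (Fin m) F, A.1 *ᵥ u = u' := by
  obtain ⟨g, hg, h1⟩ := transitive_ne_zero sympBilin_isAlt (sympBilin_separatingLeft (F := F) (m := m))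
    u u' hu hu'
  obtain ⟨A, rfl⟩ := exists_toEquiv_eq (transvGroup_le_isom hg)
  exact ⟨A, h1⟩

/-- A vector pairing to `1` with a given non-zero vector. -/
theorem exists_pair_one {u : Fin m ⊕ Fin m → F} (hu : u ≠ 0) : ∃ v, sympForm m F u v = 1 := by
  obtain ⟨p, -, hp⟩ := CfsgLib.Forms.exists_orth_pair_one (σ := RingHom.id F) Function.surjective_id
    (sympBilin m F) sympBilin_separatingLeft (Fin.elim0 : Fin 0 → Fin m ⊕ Fin m → F) u (by simpa using hu)
  exact ⟨p, by rw [← sympBilin_apply]; exact hp⟩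

theorem mem_center_iff {A : symplecticGroup (Fin m) F} :
    A ∈ Subgroup.center (symplecticGroup (Fin m) F) ↔
      (A : Matrix (Fin m ⊕ Fin m) (Fin m ⊕ Fin m) F) = 1 ∨
      (A : Matrix (Fin m ⊕ Fin m) (Fin m ⊕ Fin m) F) = -1 := by
  constructor
  · intro hA
    have hfix : ∀ v x : Fin m ⊕ Fin m → F, sympForm m F x (A.1 *ᵥ v) • (A.1 *ᵥ v)
        = sympForm m F x v • v := by
      intro v x
      have h := conj_tmat A v 1
      rw [← (Subgroup.mem_center_iff.mp hA (tmat v 1)), mul_inv_cancel_right] at h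
      have h2 := congrArg (fun M : symplecticGroup (Fin m) F => M.1 *ᵥ x) h
      simp only [tmat, sympTransvection_mulVec, one_mul, add_right_inj] at h2
      exact h2.symm
    obtain ⟨a, ha⟩ := (Matrix.toLin' (A : Matrix (Fin m ⊕ Fin m) (Fin m ⊕ Fin m) F)).exists_eq_smul_id_of_forall_notLinearIndependent
      (fun v => by
        by_cases hv : v = 0
        · simp [hv, linearIndependent_fin2]
        obtain ⟨x, hx⟩ := exists_pair_one hv
        have hxv : sympForm m F x v = -1 := by rw [sympForm_flip, hx]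
        have h := hfix v x
        rw [hxv] at h
        intro hind
        rw [linearIndependent_fin2] at hind
        obtain ⟨-, hind⟩ := hind
        simp only [Matrix.cons_val_one, Matrix.cons_val_zero, Matrix.toLin'_apply] at hind
        exact hind (-sympForm m F x (A.1 *ᵥ v))
          (by rw [neg_smul, h, neg_smul, one_smul, neg_neg]))
    have hA' : ∀ v, A.1 *ᵥ v = a • v := fun v => by
      have := LinearMap.congr_fun ha v
      simpa using this
    by_cases hm : m = 0
    · subst hm
      exact .inl (Subsingleton.elim _ _)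
    · have : Nonempty (Fin m) := Fin.pos_iff_nonempty.mp (Nat.pos_of_ne_zero hm)
      obtain ⟨i⟩ := this
      obtain ⟨x, hx⟩ := exists_pair_one (m := m) (u := Pi.single (Sum.inl i) (1 : F))
        (by simp [Pi.single_eq_zero_iff])
      have h := sympForm_mulVec A (Pi.single (Sum.inl i) (1 : F)) x
      rw [hA', hA', ← sympBilin_apply, map_smul, map_smul, LinearMap.smul_apply, sympBilin_apply, hx,
        smul_eq_mul, smul_eq_mul, mul_one] at h
      rcases mul_self_eq_one_iff.mp h with rfl | rfl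
      · exact .inl (Matrix.ext_of_mulVec_single fun j => by rw [hA', one_smul, one_mulVec])
      · exact .inr (Matrix.ext_of_mulVec_single fun j => by rw [hA', neg_smul, one_smul, neg_mulVec, one_mulVec])
  · intro h
    rw [Subgroup.mem_center_iff]
    intro g
    apply Subtype.ext
    rcases h with h | h <;> simp [h]

end CfsgLib.Sp
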