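/-
Standard coordinates for alternating forms, and stabilisers of non-degenerate subspaces as direct products.
-/
import Mathlib
import Cfsg.Agent.Lib.Sp.Group
import Cfsg.Agent.S0752

set_option autoImplicit false

namespace CfsgLib.Sp

open Cfsg Matrix
open LinearMap (BilinForm)

variable {F : Type*} [Field F] {V : Type*} [AddCommGroup V] [Module F V] [FiniteDimensional F V]

/-- A non-degenerate alternating form of dimension `2k` is `sympForm` in suitable coordinates. -/
theorem exists_std_equiv (B : BilinForm F V) (hA : B.IsAlt) (hB : LinearMap.SeparatingLeft B) {k : ℕ}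
    (hk : Module.finrank F V = 2 * k) :
    ∃ e : (Fin k ⊕ Fin k → F) ≃ₗ[F] V, ∀ u v, B (e u) (e v) = sympForm k F u v := by
  obtain ⟨m', r, b, h1, h2, h3, h4⟩ := Cfsg.Agent.S0752.result B hA
  rcases Nat.eq_zero_or_pos r with hr | hr
  swap
  · exact absurd (hB _ (h4 ⟨0, hr⟩)) (b.ne_zero _)
  subst hr
  have hm : m' = k := by
    have := Module.finrank_eq_card_basis b
    simp at this; omega
  subst hm
  let sw : Fin m' ⊕ Fin m' ≃ (Fin m' ⊕ Fin m') ⊕ Fin 0 :=
    (Equiv.sumComm _ _).trans (Equiv.sumEmpty _ _).symm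
  let b' := b.reindex sw.symm
  refine ⟨b'.equivFun.symm, fun u v => ?_⟩
  have key : ((B.compl₁₂ b'.equivFun.symm.toLinearMap b'.equivFun.symm.toLinearMap) :
      BilinForm F (Fin m' ⊕ Fin m' → F)) = sympBilin m' F := by
    refine (Pi.basisFun F _).ext fun i => (Pi.basisFun F _).ext fun j => ?_
    have hbi : ∀ i, b'.equivFun.symm (Pi.basisFun F _ i) = b (sw i) := fun i => by
      rw [Pi.basisFun_apply, Module.Basis.equivFun_symm_apply]
      simp [b', Pi.single_apply]
    show B (b'.equivFun.symm _) (b'.equivFun.symm _) = _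
    rw [hbi, hbi, sympBilin_apply, Pi.basisFun_apply, Pi.basisFun_apply, sympForm_eq_sum]
    rcases i with i | i <;> rcases j with j | j <;>
      simp [sw, h1, h2, h3, alt_flip hA (b (Sum.inl (Sum.inl j))) (b (Sum.inl (Sum.inr i))),
        Pi.single_apply, eq_comm]
  rw [← sympBilin_apply, ← key]
  rfl

/-- The symplectic matrix group is the isometry group of `sympBilin`. -/
noncomputable def isomEquiv (k : ℕ) (F : Type*) [Field F] :
    symplecticGroup (Fin k) F ≃* isom (sympBilin k F) :=
  MulEquiv.ofBijective ((toEquiv k F).codRestrict _ toEquiv_mem_isom)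
    ⟨fun _ _ h => toEquiv_injective (congrArg Subtype.val h),
     fun g => (exists_toEquiv_eq g.2).imp fun _ h => Subtype.ext h⟩

/-- Isometric spaces have isomorphic isometry groups. -/
def isomCongr {V' : Type*} [AddCommGroup V'] [Module F V'] {B : BilinForm F V} {B' : BilinForm F V'}
    (e : V' ≃ₗ[F] V) (h : ∀ u v, B (e u) (e v) = B' u v) : isom B' ≃* isom B where
  toFun g := ⟨e.symm.trans (g.1.trans e), fun u v => by
    simp only [LinearEquiv.trans_apply]
    rw [h, g.2 (e.symm u) (e.symm v), ← h, e.apply_symm_apply, e.apply_symm_apply]⟩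
  invFun g := ⟨e.trans (g.1.trans e.symm), fun u v => by
    simp only [LinearEquiv.trans_apply]
    rw [← h, e.apply_symm_apply, e.apply_symm_apply, g.2, h]⟩
  left_inv g := Subtype.ext (LinearEquiv.ext fun x => by simp)
  right_inv g := Subtype.ext (LinearEquiv.ext fun x => by simp)
  map_mul' g g' := Subtype.ext (LinearEquiv.ext fun x => by simp)

/-- The stabiliser of a subspace inside the isometry group. -/
def isomStab (B : BilinForm F V) (W : Submodule F V) : Subgroup (V ≃ₗ[F] V) where
  carrier := {g | g ∈ isom B ∧ ∀ v, v ∈ W ↔ g v ∈ W}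
  one_mem' := ⟨one_mem _, fun _ => Iff.rfl⟩
  mul_mem' {a b} ha hb := ⟨mul_mem ha.1 hb.1, fun v => (hb.2 v).trans (ha.2 (b v))⟩
  inv_mem' {a} ha := ⟨inv_mem ha.1, fun v => by
    have := ha.2 (a.symm v)
    rw [a.apply_symm_apply] at this
    exact this.symm⟩

theorem mem_orth_of_stab {B : BilinForm F V} {W : Submodule F V} {g : V ≃ₗ[F] V} (hg : g ∈ isomStab B W)
    (v : V) : v ∈ B.orthogonal W ↔ g v ∈ B.orthogonal W := by
  constructor
  · intro h w hw
    have hw' : g.symm w ∈ W := by
      have := hg.2 (g.symm w)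
      rw [g.apply_symm_apply] at this
      exact this.mpr hw
    have := hg.1 (g.symm w) v
    rw [g.apply_symm_apply] at this
    exact this.trans (h _ hw')
  · intro h w hw
    exact (hg.1 w v).symm.trans (h _ ((hg.2 w).mp hw))

/-- Restriction to an invariant subspace. -/
noncomputable def restrictEquiv (g : V ≃ₗ[F] V) (W : Submodule F V) (h : ∀ v, v ∈ W ↔ g v ∈ W) : W ≃ₗ[F] W where
  toFun w := ⟨g w, (h _).mp w.2⟩
  invFun w := ⟨g.symm w, (h _).mpr (by rw [g.apply_symm_apply]; exact w.2)⟩
  map_add' u v := Subtype.ext (g.map_add _ _)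
  map_smul' c v := Subtype.ext (g.map_smul c _)
  left_inv w := Subtype.ext (g.symm_apply_apply _)
  right_inv w := Subtype.ext (g.apply_symm_apply _)

/-- The stabiliser of a non-degenerate subspace is a direct product. -/
noncomputable def isomStabEquiv (B : BilinForm F V) (hA : B.IsAlt) (W : Submodule F V)
    (hc : IsCompl W (B.orthogonal W)) :
    isomStab B W ≃* isom (B.restrict W) × isom (B.restrict (B.orthogonal W)) := by
  let U := B.orthogonal W
  let P := Submodule.prodEquivOfIsCompl W U hc
  have hB : ∀ (p p' : W × U), B (P p) (P p') = B (p.1 : V) (p'.1 : V) + B (p.2 : V) (p'.2 : V) := by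
    intro p p'
    have h1 : B (p.1 : V) (p'.2 : V) = 0 := p'.2.2 _ p.1.2
    have h2 : B (p.2 : V) (p'.1 : V) = 0 := by
      rw [alt_flip hA, show B (p'.1 : V) (p.2 : V) = 0 from p.2.2 _ p'.1.2, neg_zero]
    simp [P, h1, h2]
  let f : isomStab B W →* isom (B.restrict W) × isom (B.restrict U) :=
    { toFun := fun g => (⟨restrictEquiv g.1 W g.2.2, fun u v => g.2.1 _ _⟩,
        ⟨restrictEquiv g.1 U (mem_orth_of_stab g.2), fun u v => g.2.1 _ _⟩)
      map_one' := rfl
      map_mul' := fun g g' => rfl }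
  refine MulEquiv.ofBijective f ⟨fun g g' h => ?_, fun x => ?_⟩
  · refine Subtype.ext (LinearEquiv.ext fun v => ?_)
    obtain ⟨p, rfl⟩ := P.surjective v
    have e1 : (g.1 (p.1 : V)) = g'.1 (p.1 : V) :=
      congrArg Subtype.val (LinearEquiv.congr_fun (congrArg (fun z => z.1.1) h) p.1)
    have e2 : (g.1 (p.2 : V)) = g'.1 (p.2 : V) :=
      congrArg Subtype.val (LinearEquiv.congr_fun (congrArg (fun z => z.2.1) h) p.2)
    simp [P, e1, e2]
  · let g : V ≃ₗ[F] V := P.symm.trans ((x.1.1.prodCongr x.2.1).trans P)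
    have hgP : ∀ p, g (P p) = P (x.1.1 p.1, x.2.1 p.2) := fun p => by simp [g]
    have hmem : ∀ v, v ∈ W ↔ (P.symm v).2 = 0 := fun v => by
      rw [Submodule.prodEquivOfIsCompl_symm_apply_snd_eq_zero]
    refine ⟨⟨g, fun u v => ?_, fun v => ?_⟩, ?_⟩
    · obtain ⟨p, rfl⟩ := P.surjective u
      obtain ⟨p', rfl⟩ := P.surjective v
      rw [hgP, hgP, hB, hB]
      exact congrArg₂ (· + ·) (x.1.2 _ _) (x.2.2 _ _)
    · obtain ⟨p, rfl⟩ := P.surjective v
      rw [hgP, hmem, hmem]
      simp
    · refine Prod.ext (Subtype.ext (LinearEquiv.ext fun w => Subtype.ext ?_))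
        (Subtype.ext (LinearEquiv.ext fun w => Subtype.ext ?_))
      · show g (w : V) = (x.1.1 w : V)
        have := hgP (w, 0)
        simp [P] at this
        exact this
      · show g (w : V) = (x.2.1 w : V)
        have := hgP (0, w)
        simp [P] at this
        exact this

/-- The stabiliser in the matrix group of a set of vectors forming a subspace. -/
noncomputable def stabilizingEquiv {m : ℕ} (W : Submodule F (Fin m ⊕ Fin m → F)) :
    stabilizing (spToMat m F) (W : Set (Fin m ⊕ Fin m → F)) ≃* isomStab (sympBilin m F) W where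
  toFun g := ⟨toEquiv m F g.1, toEquiv_mem_isom g.1, fun v => g.2 v⟩
  invFun g := ⟨(exists_toEquiv_eq g.2.1).choose, fun v => by
    have h := g.2.2 v
    rw [← (exists_toEquiv_eq g.2.1).choose_spec] at h
    exact h⟩
  left_inv g := Subtype.ext (toEquiv_injective (exists_toEquiv_eq (toEquiv_mem_isom g.1)).choose_spec)
  right_inv g := Subtype.ext (exists_toEquiv_eq g.2.1).choose_spec
  map_mul' g g' := Subtype.ext (map_mul (toEquiv m F) g.1 g'.1)

end CfsgLib.Sp
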