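/-
Counting in symplectic groups over finite fields: totally isotropic tuples, the order of the group, stabilisers of
totally isotropic subspaces.
-/
import Mathlib
import Cfsg.Agent.Lib.Sp.Group
import Cfsg.Agent.Lib.ClassicalGroups.Count

set_option autoImplicit false

namespace CfsgLib.Sp

open Cfsg Matrix Finset
open LinearMap (BilinForm)

variable {F : Type*} [Field F] {m : ℕ}

/-- Linearly independent tuples spanning a totally isotropic subspace. -/
def isoTuples (m : ℕ) (F : Type*) [Field F] (k : ℕ) : Set (Fin k → Fin m ⊕ Fin m → F) :=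
  {x | LinearIndependent F x ∧ ∀ i j, sympForm m F (x i) (x j) = 0}

/-- Symmetric matrices are functions on unordered pairs. -/
def symmEquiv (n : Type*) (R : Type*) : {S : Matrix n n R // Sᵀ = S} ≃ (Sym2 n → R) where
  toFun S := Sym2.lift ⟨fun i j => S.1 i j, fun i j => by
    have := congrFun (congrFun S.2 j) i; simpa using this⟩
  invFun f := ⟨fun i j => f s(i, j), by ext i j; exact congrArg f Sym2.eq_swap⟩
  left_inv S := by ext i j; rfl
  right_inv f := by funext z; induction z using Sym2.ind with | _ i j => rfl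

theorem card_symmetric [Fintype F] {q : ℕ} (hF : Fintype.card F = q) :
    Nat.card {S : Matrix (Fin m) (Fin m) F // Sᵀ = S} = q ^ (m + 1).choose 2 := by
  rw [Nat.card_congr (symmEquiv (Fin m) F), Nat.card_fun, Nat.card_eq_fintype_card,
    Nat.card_eq_fintype_card, hF, Sym2.card, Fintype.card_fin]

/-- The orthogonal complement of the span of a tuple. -/
noncomputable def orthSpan {k : ℕ} (x : Fin k → Fin m ⊕ Fin m → F) :
    Submodule F (Fin m ⊕ Fin m → F) :=
  (sympBilin m F).orthogonal (Submodule.span F (Set.range x))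

theorem mem_orthSpan {k : ℕ} {x : Fin k → Fin m ⊕ Fin m → F} {t : Fin m ⊕ Fin m → F} :
    t ∈ orthSpan x ↔ ∀ i, sympForm m F (x i) t = 0 := by
  constructor
  · intro h i
    rw [← sympBilin_apply]
    exact h _ (Submodule.subset_span ⟨i, rfl⟩)
  · intro h u hu
    show sympBilin m F u t = 0
    exact CfsgLib.Forms.apply_mem_span_eq_zero ((sympBilin m F).flip t) x
      (fun i => by simp [sympBilin_apply, h]) hu

theorem finrank_orthSpan {k : ℕ} {x : Fin k → Fin m ⊕ Fin m → F} (hx : LinearIndependent F x) :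
    Module.finrank F (orthSpan x) = 2 * m - k := by
  rw [orthSpan, LinearMap.BilinForm.finrank_orthogonal sympBilin_nondegenerate,
    finrank_span_eq_card hx]
  simp [two_mul]

theorem span_le_orthSpan {k : ℕ} {x : Fin k → Fin m ⊕ Fin m → F}
    (hx : ∀ i j, sympForm m F (x i) (x j) = 0) : Submodule.span F (Set.range x) ≤ orthSpan x :=
  Submodule.span_le.mpr (Set.range_subset_iff.mpr fun j => mem_orthSpan.mpr fun i => hx i j)

section Finite

variable [Fintype F] {q : ℕ}

theorem card_submodule (hF : Fintype.card F = q) {V : Type*} [AddCommGroup V] [Module F V]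
    [FiniteDimensional F V] (W : Submodule F V) : Nat.card W = q ^ Module.finrank F W := by
  rw [Module.natCard_eq_pow_finrank (K := F) (V := W), Nat.card_eq_fintype_card, hF]

theorem card_isoTuples (hF : Fintype.card F = q) : ∀ k : ℕ,
    Nat.card (isoTuples m F k) = ∏ i ∈ range k, (q ^ (2 * m - i) - q ^ i) := by
  intro k
  induction k with
  | zero =>
    rw [Finset.prod_range_zero]
    exact Nat.card_eq_one_iff_exists.mpr
      ⟨⟨Fin.elim0, linearIndependent_empty_type, fun i => i.elim0⟩, fun x =>
        Subtype.ext (funext fun i => i.elim0)⟩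
  | succ k ih =>
    let S : isoTuples m F k → Set (Fin m ⊕ Fin m → F) := fun x =>
      (orthSpan x.1 : Set (Fin m ⊕ Fin m → F)) \ Submodule.span F (Set.range x.1)
    let e : isoTuples m F (k + 1) ≃ Σ x : isoTuples m F k, S x :=
      { toFun := fun y => ⟨⟨fun i => y.1 i.castSucc,
            y.2.1.comp _ (Fin.castSucc_injective k), fun i j => y.2.2 _ _⟩,
          ⟨y.1 (Fin.last k), mem_orthSpan.mpr fun i => y.2.2 _ _,
            CfsgLib.Forms.notMem_span_of_linearIndependent y.1 y.2.1⟩⟩
        invFun := fun p => ⟨Fin.snoc p.1.1 p.2.1,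
          linearIndependent_finSnoc.mpr ⟨p.1.2.1, p.2.2.2⟩, by
            have hp := mem_orthSpan.mp p.2.2.1
            intro i j
            induction i using Fin.lastCases with
            | last =>
              induction j using Fin.lastCases with
              | last => simp [sympForm_self]
              | cast j => rw [sympForm_flip]; simp [hp j]
            | cast i =>
              induction j using Fin.lastCases with
              | last => simp [hp i]
              | cast j => simp [p.1.2.2 i j]⟩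
        left_inv := fun y => Subtype.ext (Fin.snoc_init_self y.1)
        right_inv := fun p => by
          obtain ⟨⟨x, hx⟩, ⟨t, ht⟩⟩ := p
          refine Sigma.subtype_ext (Subtype.ext (funext fun i => by simp)) (by simp) }
    have hS : ∀ x, Nat.card (S x) = q ^ (2 * m - k) - q ^ k := fun x => by
      have hle := span_le_orthSpan x.2.2
      rw [Nat.card_coe_set_eq, Set.ncard_sdiff (by exact hle), ← Nat.card_coe_set_eq,
        ← Nat.card_coe_set_eq, SetLike.coe_sort_coe, SetLike.coe_sort_coe, card_submodule hF,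
        card_submodule hF, finrank_orthSpan x.2.1, finrank_span_eq_card x.2.1, Fintype.card_fin]
    have : Fintype (isoTuples m F k) := Fintype.ofFinite _
    rw [Nat.card_congr e, Nat.card_sigma, Finset.sum_congr rfl (fun x _ => hS x), Finset.sum_const,
      Finset.card_univ, ← Nat.card_eq_fintype_card, ih, smul_eq_mul, Finset.prod_range_succ]

/-- `∏_{i<k} (q^(2m-i) - q^i) = q^(C(k,2)) ∏_{i<k} (q^(2(m-i)) - 1)`. -/
theorem prod_isoTuples (q m k : ℕ) (hk : k ≤ m) :
    ∏ i ∈ range k, (q ^ (2 * m - i) - q ^ i)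
      = q ^ k.choose 2 * ∏ i ∈ range k, (q ^ (2 * (m - i)) - 1) := by
  rw [Nat.choose_two_right, ← Finset.sum_range_id, ← Finset.prod_pow_eq_pow_sum,
    ← Finset.prod_mul_distrib]
  refine Finset.prod_congr rfl fun i hi => ?_
  rw [Finset.mem_range] at hi
  rw [Nat.mul_sub, mul_one, ← pow_add]
  congr 2; omega

theorem prod_split (q m k : ℕ) (hk : k ≤ m) :
    ∏ i ∈ range m, (q ^ (2 * (i + 1)) - 1)
      = (∏ i ∈ range (m - k), (q ^ (2 * (i + 1)) - 1)) * ∏ i ∈ range k, (q ^ (2 * (m - i)) - 1) := by
  obtain ⟨j, rfl⟩ : ∃ j, m = j + k := ⟨m - k, by omega⟩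
  rw [Nat.add_sub_cancel, Finset.prod_range_add, ← Finset.prod_range_reflect (fun i => q ^ (2 * (j + k - i)) - 1)]
  refine congrArg _ (Finset.prod_congr rfl fun i hi => ?_)
  rw [Finset.mem_range] at hi
  congr 3; omega

theorem choose_two_succ_add (n : ℕ) : n.choose 2 + (n + 1).choose 2 = n ^ 2 := by
  induction n with
  | zero => rfl
  | succ n ih =>
    rw [Nat.choose_succ_succ' (n + 1) 1, Nat.choose_one_right, Nat.choose_succ_succ' n 1,
      Nat.choose_one_right] at *
    linarith [sq n, sq (n + 1)]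

end Finite

/-- The coordinate vectors `e_0, …, e_(k-1)`. -/
def stdTuple (F : Type*) [Field F] {m k : ℕ} (hk : k ≤ m) : Fin k → Fin m ⊕ Fin m → F :=
  fun i => Pi.single (Sum.inl (Fin.castLE hk i)) 1

theorem stdTuple_mem {k : ℕ} (hk : k ≤ m) : stdTuple F hk ∈ isoTuples m F k := by
  refine ⟨?_, fun i j => by simp [sympForm_eq_sum, stdTuple]⟩
  have := (Pi.linearIndependent_single_one (Fin m ⊕ Fin m) F).comp _
    (Sum.inl_injective.comp (Fin.castLE_injective hk))
  exact this

/-- The pointwise stabiliser of a tuple. -/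
def tupleStab {k : ℕ} (x : Fin k → Fin m ⊕ Fin m → F) : Subgroup (symplecticGroup (Fin m) F) where
  carrier := {A | ∀ i, A.1 *ᵥ x i = x i}
  one_mem' i := by simp
  mul_mem' {a b} ha hb i := by simp only [Submonoid.coe_mul, ← mulVec_mulVec, hb i, ha i]
  inv_mem' {a} ha i := by
    conv_lhs => rw [← ha i, mulVec_mulVec, ← Submonoid.coe_mul, inv_mul_cancel, Submonoid.coe_one,
      one_mulVec]

theorem card_eq_isoTuples_mul {k : ℕ} {x : Fin k → Fin m ⊕ Fin m → F} (hx : x ∈ isoTuples m F k) :
    Nat.card (symplecticGroup (Fin m) F) = Nat.card (isoTuples m F k) * Nat.card (tupleStab x) := by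
  refine CfsgLib.ClassicalGroups.natCard_eq_image_mul (tupleStab x) (fun A i => A.1 *ᵥ x i)
    (isoTuples m F k) (fun A B => ?_) (fun A => ?_) (fun y hy => ?_)
  · constructor
    · intro h i
      rw [Submonoid.coe_mul, ← mulVec_mulVec, ← congrFun h i, mulVec_mulVec, ← Submonoid.coe_mul,
        inv_mul_cancel, Submonoid.coe_one, one_mulVec]
    · intro h; funext i
      conv_lhs => rw [← h i, mulVec_mulVec, ← Submonoid.coe_mul, mul_inv_cancel_left]
  · refine ⟨?_, fun i j => by rw [sympForm_mulVec]; exact hx.2 i j⟩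
    exact hx.1.map' (toEquiv m F A).toLinearMap (LinearEquiv.ker _)
  · obtain ⟨A, hA⟩ := witt_matrix x y hx.1 hy.1 (fun i j => by rw [hx.2, hy.2])
    exact ⟨A, funext hA⟩

/-- The unipotent matrix of a symmetric block. -/
theorem fromBlocks_symm_mem {S : Matrix (Fin m) (Fin m) F} (hS : Sᵀ = S) :
    fromBlocks 1 S 0 1 ∈ symplecticGroup (Fin m) F :=
  SymplecticGroup.fromBlocks_mem_iff.mpr ⟨by simp, by simp [hS], by simp⟩

theorem exists_of_fix_lagrangian {A : symplecticGroup (Fin m) F}
    (h : ∀ i, A.1 *ᵥ stdTuple F (le_refl m) i = stdTuple F (le_refl m) i) :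
    ∃ S : Matrix (Fin m) (Fin m) F, Sᵀ = S ∧ A.1 = fromBlocks 1 S 0 1 := by
  have hcol : ∀ (i : Fin m) (r : Fin m ⊕ Fin m), A.1 r (Sum.inl i) = if r = Sum.inl i then 1 else 0 :=
    fun i r => by
      have := congrFun (h i) r
      simpa [stdTuple, Pi.single_apply] using this
  have h11 : A.1.toBlocks₁₁ = 1 := by ext r i; simp [toBlocks₁₁, hcol, Matrix.one_apply]
  have h21 : A.1.toBlocks₂₁ = 0 := by ext r i; simp [toBlocks₂₁, hcol]
  have hA := A.2
  rw [← fromBlocks_toBlocks A.1, h11, h21, SymplecticGroup.fromBlocks_mem_iff] at hA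
  obtain ⟨-, h2, h3⟩ := hA
  simp at h3
  rw [h3] at h2
  simp at h2
  exact ⟨A.1.toBlocks₁₂, h2, by conv_lhs => rw [← fromBlocks_toBlocks A.1, h11, h21, h3]⟩

theorem card_tupleStab_std :
    Nat.card (tupleStab (stdTuple F (le_refl m))) = Nat.card {S : Matrix (Fin m) (Fin m) F // Sᵀ = S} := by
  let f : {S : Matrix (Fin m) (Fin m) F // Sᵀ = S} → tupleStab (stdTuple F (le_refl m)) := fun S =>
    ⟨⟨fromBlocks 1 S.1 0 1, fromBlocks_symm_mem S.2⟩, fun i => by
      funext r
      rcases r with r | r <;> simp [stdTuple, Pi.single_apply, Matrix.one_apply]⟩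
  refine (Nat.card_congr (Equiv.ofBijective f ⟨?_, ?_⟩)).symm
  · intro S T h
    exact Subtype.ext (fromBlocks_inj.mp (congrArg (fun A => A.1.1) h)).2.1
  · intro A
    obtain ⟨S, hS, hA⟩ := exists_of_fix_lagrangian A.2
    exact ⟨⟨S, hS⟩, Subtype.ext (Subtype.ext hA.symm)⟩

section Finite

variable [Fintype F] {q : ℕ}

/-- The order of the symplectic group. -/
theorem card_symplecticGroup (hF : Fintype.card F = q) :
    Nat.card (symplecticGroup (Fin m) F) = q ^ m ^ 2 * ∏ i ∈ range m, (q ^ (2 * (i + 1)) - 1) := by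
  rw [card_eq_isoTuples_mul (stdTuple_mem (le_refl m)), card_isoTuples hF, card_tupleStab_std,
    card_symmetric hF, prod_isoTuples q m m le_rfl, prod_split q m m le_rfl, Nat.sub_self,
    Finset.prod_range_zero, one_mul, mul_right_comm, ← pow_add, choose_two_succ_add]

theorem card_center (hF : Fintype.card F = q) (hm : 1 ≤ m) :
    Nat.card (Subgroup.center (symplecticGroup (Fin m) F)) = Nat.gcd 2 (q - 1) := by
  let f : ({1, -1} : Set F) → Subgroup.center (symplecticGroup (Fin m) F) := fun a =>
    ⟨⟨(a.1 : F) • (1 : Matrix (Fin m ⊕ Fin m) (Fin m ⊕ Fin m) F), by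
      rcases a.2 with h | h
      · rw [h, one_smul]; exact one_mem _
      · rw [Set.mem_singleton_iff] at h; rw [h, neg_one_smul]
        exact SymplecticGroup.neg_mem (one_mem _)⟩, by
      rw [mem_center_iff]
      rcases a.2 with h | h
      · simp [h]
      · rw [Set.mem_singleton_iff] at h; simp [h]⟩
  have hf : Function.Bijective f := by
    constructor
    · intro a b h
      have hi : Fin m := ⟨0, hm⟩
      have := congrArg (fun z => z.1.1 (Sum.inl hi) (Sum.inl hi)) h
      simpa [f, Subtype.ext_iff] using this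
    · intro z
      rcases mem_center_iff.mp z.2 with h | h
      · exact ⟨⟨1, by simp⟩, by simp [f, Subtype.ext_iff, h]⟩
      · exact ⟨⟨-1, by simp⟩, by simp [f, Subtype.ext_iff, h]⟩
  rw [← Nat.card_congr (Equiv.ofBijective f hf), Nat.card_coe_set_eq]
  by_cases h2 : ringChar F = 2
  · have : (1 : F) = -1 := by
      have : CharP F 2 := ringChar.eq_iff.mp h2
      simp [CharTwo.neg_eq]
    rw [← this]
    simp only [Set.pair_eq_singleton, Set.ncard_singleton]
    have hev : Even q := by rw [← hF]; exact Nat.even_iff.mpr (FiniteField.even_card_of_char_two h2)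
    have hq : 1 < q := hF ▸ Fintype.one_lt_card
    symm
    rw [← Nat.coprime_iff_gcd_eq_one, Nat.coprime_two_left]
    rcases hev with ⟨j, hj⟩
    exact ⟨j - 1, by omega⟩
  · rw [Set.ncard_pair (Ring.neg_one_ne_one_of_char_ne_two h2).symm]
    have hod : q % 2 = 1 := hF ▸ FiniteField.odd_card_of_char_ne_two h2
    exact (Nat.gcd_eq_left (Nat.dvd_of_mod_eq_zero (by omega))).symm

theorem card_psp (hF : Fintype.card F = q) (hm : 1 ≤ m) :
    Nat.gcd 2 (q - 1) * Nat.card (PSp m F) = q ^ m ^ 2 * ∏ i ∈ range m, (q ^ (2 * (i + 1)) - 1) := by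
  rw [← card_symplecticGroup hF, ← card_center hF hm, mul_comm]
  exact (Subgroup.card_eq_card_quotient_mul_card_subgroup _).symm

end Finite

end CfsgLib.Sp
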