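/-
Perfectness of symplectic groups, primitivity on points, and simplicity of `PSp`.
-/
import Mathlib
import Cfsg.Agent.Lib.Sp.Group

set_option autoImplicit false

namespace CfsgLib.Sp

open Cfsg Matrix
open scoped LinearAlgebra.Projectivization Pointwise

variable {F : Type*} [Field F] {m : ℕ}

theorem tmat_zero_vec (c : F) : tmat (0 : Fin m ⊕ Fin m → F) c = 1 := by
  simpa using tmat_smul (0 : Fin m ⊕ Fin m → F) 0 c

/-- Modulo commutators a transvection only depends on its scalar. -/
theorem abel_tmat_eq (u v : Fin m ⊕ Fin m → F) (hu : u ≠ 0) (hv : v ≠ 0) (c : F) :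
    Abelianization.of (tmat u c) = Abelianization.of (tmat v c) := by
  obtain ⟨A, hA⟩ := transitive_ne_zero_matrix v u hv hu
  rw [← hA, ← conj_tmat A v c, map_mul, map_mul, map_inv, mul_comm (Abelianization.of A),
    mul_inv_cancel_right]

/-- The perfectness criterion: there is a scalar with square different from `0` and `1`, or the field has
odd characteristic and `2 ≤ m`, or `3 ≤ m`. -/
theorem commutator_eq_top
    (h : (∃ a : F, a ≠ 0 ∧ a * a ≠ 1) ∨ ((2 : F) ≠ 0 ∧ 2 ≤ m) ∨ ((2 : F) = 0 ∧ 3 ≤ m)) :
    commutator (symplecticGroup (Fin m) F) = ⊤ := by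
  refine le_of_tmat_mem fun v c => ?_
  rw [← Abelianization.ker_of, MonoidHom.mem_ker]
  by_cases hv : v = 0
  · rw [hv, tmat_zero_vec, map_one]
  rcases h with ⟨a, ha0, ha⟩ | h
  · obtain ⟨A, hA⟩ := transitive_ne_zero_matrix v (a • v) hv (smul_ne_zero ha0 hv)
    have hne : a * a - 1 ≠ 0 := sub_ne_zero.mpr ha
    have h1 : A * tmat v (c / (a * a - 1)) * A⁻¹ * (tmat v (c / (a * a - 1)))⁻¹ = tmat v c := by
      rw [conj_tmat, hA, tmat_smul, tmat_inv, tmat_mul]
      congr 1
      linear_combination div_mul_cancel₀ c hne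
    rw [← h1, map_mul, map_mul, map_mul, map_inv, map_inv]
    rw [mul_comm (Abelianization.of A), mul_inv_cancel_right, mul_inv_cancel]
  · let e : Fin m → Fin m ⊕ Fin m → F := fun i => Pi.single (Sum.inl i) 1
    have horth : ∀ i j, sympBilin m F (e i) (e j) = 0 := fun i j => by
      simp [sympBilin_apply, sympForm_eq_sum, e]
    have hm : 2 ≤ m := by rcases h with h | h <;> omega
    let i : Fin m := ⟨0, by omega⟩
    let j : Fin m := ⟨1, by omega⟩
    have hij : i ≠ j := by simp [i, j, Fin.ext_iff]
    have hne : ∀ (x : Fin m ⊕ Fin m → F) (k : Fin m), x (Sum.inl k) ≠ 0 → x ≠ 0 :=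
      fun x k h hx => h (by rw [hx]; rfl)
    have hψ : ∀ (x : Fin m ⊕ Fin m → F) (c : F), x ≠ 0 →
        Abelianization.of (tmat x c) = Abelianization.of (tmat v c) := fun x c hx => abel_tmat_eq x v hx hv c
    rcases h with ⟨h2, -⟩ | ⟨h2, hm3⟩
    · have hid : tmat (e i + e j) (c / 2) * tmat (e i + -(e j)) (c / 2) * tmat (e j) (-c) = tmat (e i) c := by
        refine toEquiv_injective (LinearEquiv.ext fun x => ?_)
        simp only [map_mul, toEquiv_tmat, LinearEquiv.mul_apply, tvec_apply, map_add, map_neg, map_smul,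
          LinearMap.add_apply, LinearMap.smul_apply, LinearMap.neg_apply, horth, smul_eq_mul, mul_zero,
          add_zero, neg_zero]
        match_scalars <;> field_simp <;> ring
      have := congrArg Abelianization.of hid
      rw [map_mul, map_mul, hψ (e i + e j) _ (hne _ i (by simp [e, hij])),
        hψ (e i + -(e j)) _ (hne _ i (by simp [e, hij])),
        hψ (e j) _ (hne _ j (by simp [e])), hψ (e i) _ (hne _ i (by simp [e])), ← map_mul, ← map_mul, tmat_mul,
        tmat_mul] at this
      rw [← this, show c / 2 + c / 2 + -c = 0 by field_simp; ring, tmat_zero, map_one]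
    · let k : Fin m := ⟨2, by omega⟩
      have hik : i ≠ k := by simp [i, k, Fin.ext_iff]
      have hjk : j ≠ k := by simp [j, k, Fin.ext_iff]
      have hid : tmat (e i + e j) c * tmat (e j) c * tmat (e i + e k) c * tmat (e k) c
          * tmat (e i + e j + e k) c * tmat (e j + e k) c = tmat (e i) c := by
        refine toEquiv_injective (LinearEquiv.ext fun x => ?_)
        simp only [map_mul, toEquiv_tmat, LinearEquiv.mul_apply, tvec_apply, map_add, map_smul,
          LinearMap.add_apply, LinearMap.smul_apply, horth, smul_eq_mul, mul_zero, add_zero]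
        match_scalars
        all_goals first
          | ring1
          | linear_combination (c * (sympBilin m F x (e i) + sympBilin m F x (e j) + sympBilin m F x (e k))) * h2
          | linear_combination (c * (sympBilin m F x (e i) + 2 * sympBilin m F x (e j) + sympBilin m F x (e k))) * h2
          | linear_combination (c * (sympBilin m F x (e i) + sympBilin m F x (e j) + 2 * sympBilin m F x (e k))) * h2
      have := congrArg Abelianization.of hid
      simp only [map_mul] at this
      rw [hψ (e i + e j) _ (hne _ i (by simp [e, hij])), hψ (e j) _ (hne _ j (by simp [e])),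
        hψ (e i + e k) _ (hne _ i (by simp [e, hik])), hψ (e k) _ (hne _ k (by simp [e])),
        hψ (e i + e j + e k) _ (hne _ i (by simp [e, hij, hik])),
        hψ (e j + e k) _ (hne _ j (by simp [e, hjk])),
        hψ (e i) _ (hne _ i (by simp [e]))] at this
      simp only [← map_mul, tmat_mul] at this
      rw [← this, show c + c + c + c + c + c = 0 by linear_combination (3 * c) * h2, tmat_zero, map_one]

theorem commutator_eq_top_of_card [Fintype F] {q : ℕ} (hF : Fintype.card F = q)
    (hq : 4 ≤ q ∨ (q = 3 ∧ 2 ≤ m) ∨ (q = 2 ∧ 3 ≤ m)) : commutator (symplecticGroup (Fin m) F) = ⊤ := by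
  classical
  refine commutator_eq_top ?_
  rcases hq with hq | ⟨hq, hm⟩ | ⟨hq, hm⟩
  · left
    obtain ⟨a, -, ha⟩ := Finset.exists_mem_notMem_of_card_lt_card
      (s := ({0, 1, -1} : Finset F)) (t := Finset.univ) (by
        rw [Finset.card_univ, hF]; exact lt_of_le_of_lt Finset.card_le_three (by omega))
    simp only [Finset.mem_insert, Finset.mem_singleton, not_or] at ha
    exact ⟨a, ha.1, fun h => (mul_self_eq_one_iff.mp h).elim ha.2.1 ha.2.2⟩
  · refine .inr (.inl ⟨fun h2 => ?_, hm⟩)
    have : CharP F 2 := CharTwo.of_one_ne_zero_of_two_eq_zero one_ne_zero h2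
    have := FiniteField.even_card_of_char_two (ringChar.eq F 2 ▸ rfl : ringChar F = 2)
    omega
  · refine .inr (.inr ⟨?_, hm⟩)
    have h1 : (q : F) = 0 := hF ▸ Nat.cast_card_eq_zero F
    rw [hq] at h1; exact_mod_cast h1

/-- `symplecticGroup ≃* spGL`. -/
noncomputable def spEquiv (m : ℕ) (F : Type*) [Field F] : symplecticGroup (Fin m) F ≃* spGL m F :=
  MulEquiv.ofBijective
    ({ toFun := fun A => ⟨⟨A.1, (A⁻¹).1, by rw [← Submonoid.coe_mul, mul_inv_cancel, Submonoid.coe_one],
          by rw [← Submonoid.coe_mul, inv_mul_cancel, Submonoid.coe_one]⟩, fun u v => sympForm_mulVec A u v⟩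
       map_one' := Subtype.ext (Units.ext rfl)
       map_mul' := fun A B => Subtype.ext (Units.ext rfl) } : symplecticGroup (Fin m) F →* spGL m F)
    ⟨fun A B h => Subtype.ext (congrArg (fun g : spGL m F => g.1.1) h),
     fun g => ⟨⟨g.1.1, mem_symplecticGroup_iff.mpr g.2⟩, Subtype.ext (Units.ext rfl)⟩⟩

@[simp] theorem spEquiv_coe (A : symplecticGroup (Fin m) F) : (spEquiv m F A).1.1 = A.1 := rfl

theorem spGL_smul_vec (g : spGL m F) (v : Fin m ⊕ Fin m → F) : g • v = g.1.1 *ᵥ v := rfl

theorem spEquiv_smul_vec (A : symplecticGroup (Fin m) F) (v : Fin m ⊕ Fin m → F) :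
    spEquiv m F A • v = A.1 *ᵥ v := rfl

theorem spEquiv_smul_mk (A : symplecticGroup (Fin m) F) (v : Fin m ⊕ Fin m → F) (hv : v ≠ 0) :
    spEquiv m F A • Projectivization.mk F v hv = Projectivization.mk F (A.1 *ᵥ v)
      (fun h => hv ((toEquiv m F A).injective (by simp [h]))) := rfl

theorem ortho_mk_iff {v : Fin m ⊕ Fin m → F} (hv : v ≠ 0) (w : Fin m ⊕ Fin m → F) :
    sympForm m F (Projectivization.mk F v hv).rep w = 0 ↔ sympForm m F v w = 0 := by
  obtain ⟨a, ha⟩ := Projectivization.exists_smul_eq_mk_rep F v hv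
  rw [← ha, ← sympBilin_apply, ← sympBilin_apply, Units.smul_def, map_smul, LinearMap.smul_apply]
  simp

theorem exists_fix_move {z q r : ℙ F (Fin m ⊕ Fin m → F)} (hq : q ≠ z) (hr : r ≠ z)
    (h : sympForm m F z.rep q.rep = 0 ↔ sympForm m F z.rep r.rep = 0) :
    ∃ g : spGL m F, g • z = z ∧ g • q = r := by
  have move : ∀ (A : symplecticGroup (Fin m) F) (a b : F), a ≠ 0 → b ≠ 0 → A.1 *ᵥ z.rep = z.rep →
      A.1 *ᵥ (a • q.rep) = b • r.rep → ∃ g : spGL m F, g • z = z ∧ g • q = r := by
    intro A a b ha hb h1 h2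
    refine ⟨spEquiv m F A, ?_, ?_⟩
    · conv_lhs => rw [← z.mk_rep, spEquiv_smul_mk]
      conv_rhs => rw [← z.mk_rep]
      simp only [h1]
    · conv_lhs => rw [← q.mk_rep, spEquiv_smul_mk]
      conv_rhs => rw [← r.mk_rep]
      rw [Projectivization.mk_eq_mk_iff']
      exact ⟨b / a, by rw [div_eq_inv_mul, mul_smul, ← h2, mulVec_smul, smul_smul,
        inv_mul_cancel₀ ha, one_smul]⟩
  by_cases h0 : sympForm m F z.rep q.rep = 0
  · obtain ⟨A, hA⟩ := witt_matrix ![z.rep, q.rep] ![z.rep, r.rep]
      (Projectivization.linearIndependent_pair_iff_ne.mpr hq.symm)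
      (Projectivization.linearIndependent_pair_iff_ne.mpr hr.symm)
      (fun i j => by
        fin_cases i <;> fin_cases j <;>
          simp [sympForm_self, h0, h.mp h0, sympForm_flip z.rep q.rep, sympForm_flip z.rep r.rep])
    exact move A 1 1 one_ne_zero one_ne_zero (hA 0) (by simpa using hA 1)
  · have h1 : sympForm m F z.rep r.rep ≠ 0 := fun hh => h0 (h.mpr hh)
    obtain ⟨A, hA1, hA2⟩ := transitive_hyperbolic_matrix z.rep ((sympForm m F z.rep q.rep)⁻¹ • q.rep)
      z.rep ((sympForm m F z.rep r.rep)⁻¹ • r.rep)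
      (by rw [← sympBilin_apply, map_smul, sympBilin_apply, smul_eq_mul, inv_mul_cancel₀ h0])
      (by rw [← sympBilin_apply, map_smul, sympBilin_apply, smul_eq_mul, inv_mul_cancel₀ h1])
    exact move A _ _ (inv_ne_zero h0) (inv_ne_zero h1) hA1 hA2

/-- The symplectic group is primitive on points. -/
theorem isPreprimitive_spGL : MulAction.IsPreprimitive (spGL m F) (ℙ F (Fin m ⊕ Fin m → F)) := by
  have : MulAction.IsPretransitive (spGL m F) (ℙ F (Fin m ⊕ Fin m → F)) := ⟨fun p r => by
    obtain ⟨A, hA⟩ := transitive_ne_zero_matrix p.rep r.rep p.rep_nonzero r.rep_nonzero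
    refine ⟨spEquiv m F A, ?_⟩
    conv_lhs => rw [← p.mk_rep, spEquiv_smul_mk]
    conv_rhs => rw [← r.mk_rep]
    simp only [hA]⟩
  refine ⟨fun {B} hB => ?_⟩
  rw [MulAction.IsTrivialBlock, or_iff_not_imp_left, Set.not_subsingleton_iff]
  intro hnt
  have closed : ∀ {z q r : ℙ F (Fin m ⊕ Fin m → F)}, z ∈ B → q ∈ B → q ≠ z → r ≠ z →
      (sympForm m F z.rep q.rep = 0 ↔ sympForm m F z.rep r.rep = 0) → r ∈ B := by
    intro z q r hz hq hqz hrz h
    obtain ⟨g, hgz, hgq⟩ := exists_fix_move hqz hrz h
    have hgB : g • B = B :=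
      hB.smul_eq_of_nonempty ⟨z, ⟨z, hz, hgz⟩, hz⟩
    rw [← hgB, ← hgq]; exact Set.smul_mem_smul_set hq
  have hsl := sympBilin_separatingLeft (F := F) (m := m)
  obtain ⟨p, hp, q, hq, hpq⟩ := hnt
  obtain ⟨p, hp, q, hq, hpq⟩ : ∃ p ∈ B, ∃ q ∈ B, sympForm m F p.rep q.rep ≠ 0 := by
    by_contra hall
    push Not at hall
    have hspan : q.rep ∉ Submodule.span F (Set.range ![p.rep]) := by
      rw [Matrix.range_cons, Matrix.range_empty, Set.union_empty, Submodule.mem_span_singleton]
      rintro ⟨a, ha⟩
      exact (linearIndependent_fin2.mp (Projectivization.linearIndependent_pair_iff_ne.mpr (Ne.symm hpq))).2 a ha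
    obtain ⟨w, hw, hw1⟩ := CfsgLib.Forms.exists_orth_pair_one (σ := RingHom.id F) Function.surjective_id
      (sympBilin m F) hsl ![p.rep] q.rep hspan
    have hpw : sympForm m F p.rep w = 0 := by rw [← sympBilin_apply]; exact hw 0
    rw [sympBilin_apply] at hw1
    have hw0 : w ≠ 0 := fun h => by rw [h, ← sympBilin_apply, map_zero] at hw1; exact zero_ne_one hw1
    set r := Projectivization.mk F w hw0
    have hq' : sympForm m F q.rep r.rep ≠ 0 := fun h => by
      rw [sympForm_flip, neg_eq_zero, ortho_mk_iff, sympForm_flip, hw1] at h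
      simp at h
    have hr' : sympForm m F p.rep r.rep = 0 := by
      rw [sympForm_flip, neg_eq_zero, ortho_mk_iff, sympForm_flip, hpw, neg_zero]
    have hrp : r ≠ p := fun h => hq' (by rw [h]; exact hall q hq p hp)
    exact hq' (hall q hq r (closed hp hq (Ne.symm hpq) hrp (by simp [hall p hp q hq, hr'])))
  rw [Set.eq_univ_iff_forall]
  intro r
  by_cases hr : sympForm m F p.rep r.rep = 0
  · have hsp : ∀ x : ℙ F (Fin m ⊕ Fin m → F),
        x.rep ∉ Submodule.span F (Set.range (Fin.elim0 : Fin 0 → Fin m ⊕ Fin m → F)) := fun x => by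
      simpa using x.rep_nonzero
    obtain ⟨a, -, ha⟩ := CfsgLib.Forms.exists_orth_pair_one (σ := RingHom.id F) Function.surjective_id
      (sympBilin m F) hsl _ p.rep (hsp p)
    obtain ⟨b, -, hb⟩ := CfsgLib.Forms.exists_orth_pair_one (σ := RingHom.id F) Function.surjective_id
      (sympBilin m F) hsl _ r.rep (hsp r)
    obtain ⟨w, hwp, hwr⟩ : ∃ w, sympBilin m F p.rep w ≠ 0 ∧ sympBilin m F r.rep w ≠ 0 := by
      by_cases h1 : sympBilin m F r.rep a = 0
      · by_cases h2 : sympBilin m F p.rep b = 0
        · exact ⟨a + b, by simp [ha, h2], by simp [hb, h1]⟩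
        · exact ⟨b, h2, by simp [hb]⟩
      · exact ⟨a, by simp [ha], h1⟩
    rw [sympBilin_apply] at hwp hwr
    have hw0 : w ≠ 0 := fun h => hwp (by rw [h, ← sympBilin_apply, map_zero])
    have e1 : sympForm m F (Projectivization.mk F w hw0).rep p.rep ≠ 0 := by
      rwa [Ne, ortho_mk_iff, sympForm_flip, neg_eq_zero]
    have e2 : sympForm m F (Projectivization.mk F w hw0).rep r.rep ≠ 0 := by
      rwa [Ne, ortho_mk_iff, sympForm_flip, neg_eq_zero]
    set z := Projectivization.mk F w hw0 with hz
    have hzB : z ∈ B := closed hp hq (fun h => hpq (by rw [h, sympForm_self]))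
      (fun h => e1 (by rw [h, sympForm_self])) (by
        refine iff_of_false hpq ?_
        rwa [sympForm_flip, neg_eq_zero])
    exact closed hzB hp (fun h => e1 (by rw [← h, sympForm_self]))
      (fun h => e2 (by rw [h, sympForm_self])) (iff_of_false e1 e2)
  · exact closed hp hq (fun h => hpq (by rw [h, sympForm_self]))
      (fun h => hr (by rw [h, sympForm_self])) (iff_of_false hpq hr)

/-- The root group of a vector, inside `spGL`. -/
noncomputable def rootHom (v : Fin m ⊕ Fin m → F) : Multiplicative F →* spGL m F where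
  toFun c := spEquiv m F (tmat v (Multiplicative.toAdd c))
  map_one' := by simp
  map_mul' a b := by rw [← map_mul, tmat_mul]; rfl

/-- The root groups form an Iwasawa structure on the projective space. -/
noncomputable def iwasawa (m : ℕ) (F : Type*) [Field F] :
    MulAction.IwasawaStructure (spGL m F) (ℙ F (Fin m ⊕ Fin m → F)) where
  T p := (rootHom p.rep).range
  is_comm p := inferInstance
  is_conj g p := by
    obtain ⟨A, rfl⟩ := (spEquiv m F).surjective g
    have h : spEquiv m F A • p =
        Projectivization.mk F (A.1 *ᵥ p.rep)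
          (fun h => p.rep_nonzero (toEquiv m F A |>.injective (by simp [h]))) := by
      conv_lhs => rw [← p.mk_rep, spEquiv_smul_mk]
    obtain ⟨a, ha⟩ := Projectivization.exists_smul_eq_mk_rep F (A.1 *ᵥ p.rep)
      (fun h => p.rep_nonzero (toEquiv m F A |>.injective (by simp [h])))
    rw [h, ← ha]
    have hc : ∀ c : F, spEquiv m F A * spEquiv m F (tmat p.rep c) * (spEquiv m F A)⁻¹
        = spEquiv m F (tmat (A.1 *ᵥ p.rep) c) := fun c => by
      rw [← map_inv, ← map_mul, ← map_mul, conj_tmat]
    ext x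
    simp only [Subgroup.mem_smul_pointwise_iff_exists, MonoidHom.mem_range, MulAut.smul_def,
      MulAut.conj_apply, exists_exists_eq_and]
    constructor
    · rintro ⟨c, rfl⟩
      exact ⟨Multiplicative.ofAdd (Multiplicative.toAdd c * a * a), by
        simp only [rootHom, MonoidHom.coe_mk, OneHom.coe_mk, toAdd_ofAdd, hc, Units.smul_def, tmat_smul]⟩
    · rintro ⟨c, rfl⟩
      exact ⟨Multiplicative.ofAdd (Multiplicative.toAdd c / (a * a)), by
        simp only [rootHom, MonoidHom.coe_mk, OneHom.coe_mk, toAdd_ofAdd, hc, Units.smul_def, tmat_smul]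
        congr 2
        have : (a : F) ≠ 0 := a.ne_zero
        field_simp⟩
  is_generator := by
    rw [eq_top_iff]
    intro g _
    obtain ⟨A, rfl⟩ := (spEquiv m F).surjective g
    suffices Subgroup.comap (spEquiv m F).toMonoidHom (⨆ p : ℙ F (Fin m ⊕ Fin m → F), (rootHom p.rep).range) = ⊤ by
      have hA : A ∈ Subgroup.comap (spEquiv m F).toMonoidHom (⨆ p : ℙ F (Fin m ⊕ Fin m → F), (rootHom p.rep).range) := by
        rw [this]; trivial
      exact hA
    refine le_of_tmat_mem fun v c => ?_
    by_cases hv : v = 0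
    · rw [hv, tmat_zero_vec]; exact one_mem _
    obtain ⟨a, ha⟩ := Projectivization.exists_smul_eq_mk_rep F v hv
    refine Subgroup.mem_iSup_of_mem (Projectivization.mk F v hv)
      ⟨Multiplicative.ofAdd (c / (a * a)), ?_⟩
    simp only [rootHom, MonoidHom.coe_mk, OneHom.coe_mk, toAdd_ofAdd, ← ha, Units.smul_def, tmat_smul,
      MulEquiv.coe_toMonoidHom]
    congr 2
    have : (a : F) ≠ 0 := a.ne_zero
    field_simp

theorem mem_center_of_fix {A : symplecticGroup (Fin m) F}
    (h : ∀ p : ℙ F (Fin m ⊕ Fin m → F), spEquiv m F A • p = p) :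
    A ∈ Subgroup.center (symplecticGroup (Fin m) F) := by
  have heig : ∀ v : Fin m ⊕ Fin m → F, ∃ a : F, A.1 *ᵥ v = a • v := fun v => by
    by_cases hv : v = 0
    · exact ⟨1, by simp [hv]⟩
    have := h (Projectivization.mk F v hv)
    rw [spEquiv_smul_mk, Projectivization.mk_eq_mk_iff'] at this
    obtain ⟨a, ha⟩ := this
    exact ⟨a, ha.symm⟩
  have key : ∀ v c, A * tmat v c = tmat v c * A := by
    intro v c
    obtain ⟨a, ha⟩ := heig v
    by_cases hv : v = 0
    · simp [hv, tmat_zero_vec]
    obtain ⟨w, hw⟩ := exists_pair_one hv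
    obtain ⟨b, hb⟩ := heig w
    obtain ⟨d, hd⟩ := heig (v + w)
    rw [mulVec_add, ha, hb, smul_add] at hd
    have had : a = d := by
      have := congrArg (fun x => sympForm m F x w) hd
      simpa [← sympBilin_apply, sympBilin_isAlt.self_eq_zero w,
        show sympBilin m F v w = 1 by rw [sympBilin_apply]; exact hw] using this
    have hbd : b = d := by
      have := congrArg (fun x => sympForm m F v x) hd
      simpa [← sympBilin_apply, sympBilin_isAlt.self_eq_zero v,
        show sympBilin m F v w = 1 by rw [sympBilin_apply]; exact hw] using this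
    have hab : a * b = 1 := by
      have := sympForm_mulVec A v w
      rw [ha, hb, ← sympBilin_apply, map_smul, map_smul, LinearMap.smul_apply, sympBilin_apply, hw] at this
      simpa [mul_comm] using this
    have : A * tmat v c * A⁻¹ = tmat v c := by
      rw [conj_tmat, ha, tmat_smul, mul_assoc]
      subst had hbd
      rw [hab, mul_one]
    calc A * tmat v c = A * tmat v c * A⁻¹ * A := by rw [inv_mul_cancel_right]
      _ = tmat v c * A := by rw [this]
  have : Subgroup.centralizer {A} = ⊤ := le_of_tmat_mem fun v c => by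
    rw [Subgroup.mem_centralizer_singleton_iff]; exact (key v c).symm
  rw [Subgroup.mem_center_iff]
  intro g
  have hg : g ∈ Subgroup.centralizer {A} := by rw [this]; trivial
  exact (Subgroup.mem_centralizer_singleton_iff.mp hg)

/-- A normal subgroup of a perfect symplectic group is central or everything. -/
theorem normal_le_center_or_eq_top (hperf : commutator (symplecticGroup (Fin m) F) = ⊤)
    (N : Subgroup (symplecticGroup (Fin m) F)) [N.Normal] :
    N ≤ Subgroup.center _ ∨ N = ⊤ := by
  let e := spEquiv m F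
  let N' : Subgroup (spGL m F) := N.map e.toMonoidHom
  have : N'.Normal := Subgroup.Normal.map inferInstance _ e.surjective
  have := isPreprimitive_spGL (F := F) (m := m)
  by_cases h : MulAction.fixedPoints N' (ℙ F (Fin m ⊕ Fin m → F)) = Set.univ
  · left
    intro A hA
    refine mem_center_of_fix fun p => ?_
    exact (Set.eq_univ_iff_forall.mp h p : p ∈ MulAction.fixedPoints N' _)
      ⟨e A, Subgroup.mem_map_of_mem _ hA⟩
  · right
    have hle := (iwasawa m F).commutator_le N' h
    rw [eq_top_iff]
    intro A _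
    have h1 : e A ∈ commutator (spGL m F) := by
      have : (commutator (symplecticGroup (Fin m) F)).map e.toMonoidHom ≤ commutator (spGL m F) := by
        rw [_root_.commutator_def, _root_.commutator_def, Subgroup.map_commutator]
        exact Subgroup.commutator_mono le_top le_top
      exact this (Subgroup.mem_map_of_mem _ (by rw [hperf]; trivial))
    obtain ⟨B, hB, hBA⟩ := hle h1
    rwa [← e.injective hBA]

theorem tmat_not_central (i : Fin m) :
    tmat (Pi.single (Sum.inl i) (1 : F)) 1 ∉ Subgroup.center (symplecticGroup (Fin m) F) := by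
  intro h
  rw [mem_center_iff] at h
  have hv : (Pi.single (Sum.inl i) (1 : F) : Fin m ⊕ Fin m → F) ≠ 0 := by simp [Pi.single_eq_zero_iff]
  obtain ⟨w, hw⟩ := exists_pair_one hv
  rw [sympForm_flip, neg_eq_iff_eq_neg] at hw
  rcases h with h | h
  · have h1 := congrArg (fun M => M *ᵥ w) h
    simp only [tmat, sympTransvection_mulVec, one_mulVec, hw, one_mul, add_eq_left] at h1
    exact hv (by simpa using h1)
  · have h1 := congrArg (fun M => M *ᵥ (Pi.single (Sum.inl i) (1 : F) : Fin m ⊕ Fin m → F)) h
    simp only [tmat, sympTransvection_mulVec, neg_mulVec, one_mulVec, sympForm_self, mul_zero, zero_smul,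
      add_zero] at h1
    have h2 := congrArg (fun M => M *ᵥ w) h
    simp only [tmat, sympTransvection_mulVec, neg_mulVec, one_mulVec, hw, one_mul] at h2
    have h3 := congrArg (fun x => sympBilin m F x (Pi.single (Sum.inl i) (1 : F))) h1
    have h4 := congrArg (fun x => sympBilin m F x w) h1
    simp [sympBilin_apply, sympForm_self, sympForm_flip w _, hw] at h3 h4
    have h5 := congrArg (fun x => sympBilin m F x w) h2
    simp [sympBilin_apply, sympForm_self, sympForm_flip w _, hw, ← h4] at h5

/-- Simplicity of the projective symplectic group. -/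
theorem psp_isSimpleGroup (hm : 1 ≤ m) (hperf : commutator (symplecticGroup (Fin m) F) = ⊤) :
    IsSimpleGroup (PSp m F) := by
  let Z := Subgroup.center (symplecticGroup (Fin m) F)
  let π := QuotientGroup.mk' Z
  have : Nontrivial (PSp m F) := by
    refine ⟨π (tmat (Pi.single (Sum.inl ⟨0, hm⟩) (1 : F)) 1), 1, fun h => ?_⟩
    exact tmat_not_central (F := F) ⟨0, hm⟩ ((QuotientGroup.eq_one_iff _).mp h)
  refine ⟨fun N hN => ?_⟩
  rcases normal_le_center_or_eq_top hperf (N.comap π) with h | h
  · left
    rw [eq_bot_iff]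
    intro x hx
    obtain ⟨A, rfl⟩ := QuotientGroup.mk'_surjective Z x
    exact (QuotientGroup.eq_one_iff A).mpr (h hx)
  · right
    rw [eq_top_iff]
    intro x _
    obtain ⟨A, rfl⟩ := QuotientGroup.mk'_surjective Z x
    have : A ∈ N.comap π := by rw [h]; trivial
    exact this

end CfsgLib.Sp
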