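/-
The diagonal torus of the symplectic matrix group and its normaliser.
-/
import Mathlib
import Cfsg.Agent.Lib.Sp.Group

set_option autoImplicit false

namespace CfsgLib.Sp

open Cfsg Matrix

variable {F : Type*} [Field F] {m : ℕ}

theorem sympForm_single_single (a b : Fin m ⊕ Fin m) (x y : F) :
    sympForm m F (Pi.single a x) (Pi.single b y) = x * y * -(J (Fin m) F b a) := by
  rw [sympForm, mulVec_single, single_dotProduct]
  rcases a with a | a <;> rcases b with b | b <;> simp [J, one_apply, eq_comm] <;> split_ifs <;> simp_all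

theorem mem_of_basis {A : Matrix (Fin m ⊕ Fin m) (Fin m ⊕ Fin m) F}
    (h : ∀ a b, sympForm m F (A *ᵥ Pi.single a 1) (A *ᵥ Pi.single b 1)
      = sympForm m F (Pi.single a 1) (Pi.single b 1)) : A ∈ symplecticGroup (Fin m) F := by
  have : (sympBilin m F).compl₁₂ (Matrix.toLin' A) (Matrix.toLin' A) = sympBilin m F :=
    (Pi.basisFun F _).ext fun a => (Pi.basisFun F _).ext fun b => by
      simpa [sympBilin_apply, Pi.basisFun_apply] using h a b
  rw [mem_symplecticGroup_iff]
  intro u v
  have := LinearMap.congr_fun (LinearMap.congr_fun this u) v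
  simpa [sympBilin_apply] using this

/-- The torus, as in the statements. -/
abbrev torus (m : ℕ) (F : Type*) [Field F] : Subgroup (symplecticGroup (Fin m) F) :=
  ⨅ i : Fin m ⊕ Fin m, stabilizing (spToMat m F) ((Submodule.span F {(Pi.single i (1 : F) :
    Fin m ⊕ Fin m → F)} : Submodule F (Fin m ⊕ Fin m → F)) : Set (Fin m ⊕ Fin m → F))

theorem mem_torus_iff {A : symplecticGroup (Fin m) F} :
    A ∈ torus m F ↔ ∀ a, ∃ c : F, A.1 *ᵥ Pi.single a 1 = c • Pi.single a 1 := by
  rw [Subgroup.mem_iInf]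
  constructor
  · intro h a
    obtain ⟨c, hc⟩ := Submodule.mem_span_singleton.mp ((h a _).mp (Submodule.mem_span_singleton_self _))
    exact ⟨c, hc.symm⟩
  · intro h a v
    obtain ⟨c, hc⟩ := h a
    have hc0 : c ≠ 0 := by
      rintro rfl
      have := (toEquiv m F A).injective (a₁ := Pi.single a 1) (a₂ := 0) (by simp [hc])
      simp at this
    simp only [SetLike.mem_coe, Submodule.mem_span_singleton]
    constructor
    · rintro ⟨t, rfl⟩
      exact ⟨t * c, by
        show _ = A.1 *ᵥ _
        rw [mulVec_smul, hc, smul_smul]⟩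
    · rintro ⟨t, ht⟩
      refine ⟨t / c, (toEquiv m F A).injective ?_⟩
      show A.1 *ᵥ _ = A.1 *ᵥ v
      rw [mulVec_smul, hc, smul_smul, div_mul_cancel₀ _ hc0]
      exact ht

/-- The image of a basis vector under the monomial element of `(σ, ε, t)`. -/
def monoCol (σ : Equiv.Perm (Fin m)) (p : Fin m → Bool × Fˣ) : Fin m ⊕ Fin m → Fin m ⊕ Fin m → F
  | .inl i => if (p i).1 then Pi.single (.inr (σ i)) ((p i).2 : F) else Pi.single (.inl (σ i)) ((p i).2 : F)
  | .inr i => if (p i).1 then Pi.single (.inl (σ i)) (-((p i).2⁻¹ : Fˣ) : F)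
      else Pi.single (.inr (σ i)) (((p i).2⁻¹ : Fˣ) : F)

/-- The monomial matrix of `(σ, ε, t)`. -/
def monoMat (σ : Equiv.Perm (Fin m)) (p : Fin m → Bool × Fˣ) : Matrix (Fin m ⊕ Fin m) (Fin m ⊕ Fin m) F :=
  Matrix.of fun r c => monoCol σ p c r

theorem monoMat_mulVec_single (σ : Equiv.Perm (Fin m)) (p : Fin m → Bool × Fˣ) (c : Fin m ⊕ Fin m) :
    monoMat σ p *ᵥ Pi.single c 1 = monoCol σ p c := by
  funext r; simp [monoMat]

theorem monoMat_mem (σ : Equiv.Perm (Fin m)) (p : Fin m → Bool × Fˣ) :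
    monoMat σ p ∈ symplecticGroup (Fin m) F := by
  refine mem_of_basis fun a b => ?_
  rw [monoMat_mulVec_single, monoMat_mulVec_single]
  have hσ : ∀ i j, σ i = σ j ↔ i = j := fun i j => σ.injective.eq_iff
  rcases a with i | i <;> rcases b with j | j <;>
    cases hi : (p i).1 <;> cases hj : (p j).1 <;>
    simp [monoCol, hi, hj, sympForm_single_single, J, Matrix.one_apply, hσ] <;>
    by_cases hij : j = i <;> simp_all

/-- Each column has a single support. -/
theorem monoCol_smul (σ : Equiv.Perm (Fin m)) (p : Fin m → Bool × Fˣ) (a : Fin m ⊕ Fin m) :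
    ∃ (r : Fin m ⊕ Fin m) (x : F), x ≠ 0 ∧ monoCol σ p a = Pi.single r x := by
  rcases a with i | i <;> cases hi : (p i).1
  · exact ⟨.inl (σ i), _, (p i).2.ne_zero, by simp [monoCol, hi]⟩
  · exact ⟨.inr (σ i), _, (p i).2.ne_zero, by simp [monoCol, hi]⟩
  · exact ⟨.inr (σ i), _, (p i).2⁻¹.ne_zero, by simp [monoCol, hi]⟩
  · exact ⟨.inl (σ i), _, neg_ne_zero.mpr (p i).2⁻¹.ne_zero, by simp [monoCol, hi]⟩

theorem monoCol_surj (σ : Equiv.Perm (Fin m)) (p : Fin m → Bool × Fˣ) (r : Fin m ⊕ Fin m) :
    ∃ (a : Fin m ⊕ Fin m) (x : F), x ≠ 0 ∧ monoCol σ p a = Pi.single r x := by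
  rcases r with i | i <;> cases hi : (p (σ.symm i)).1
  · exact ⟨.inl (σ.symm i), _, (p (σ.symm i)).2.ne_zero, by simp [monoCol, hi]⟩
  · exact ⟨.inr (σ.symm i), _, neg_ne_zero.mpr (p (σ.symm i)).2⁻¹.ne_zero, by simp [monoCol, hi]⟩
  · exact ⟨.inr (σ.symm i), _, (p (σ.symm i)).2⁻¹.ne_zero, by simp [monoCol, hi]⟩
  · exact ⟨.inl (σ.symm i), _, (p (σ.symm i)).2.ne_zero, by simp [monoCol, hi]⟩

theorem mem_normalizer_of_monomial (σ : Equiv.Perm (Fin m)) (p : Fin m → Bool × Fˣ) :
    (⟨monoMat σ p, monoMat_mem σ p⟩ : symplecticGroup (Fin m) F) ∈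
      Subgroup.normalizer (torus m F : Set (symplecticGroup (Fin m) F)) := by
  set g : symplecticGroup (Fin m) F := ⟨monoMat σ p, monoMat_mem σ p⟩
  have hg : ∀ a, g.1 *ᵥ Pi.single a 1 = monoCol σ p a := monoMat_mulVec_single σ p
  rw [Subgroup.mem_normalizer_iff]
  intro h
  simp only [SetLike.mem_coe, mem_torus_iff]
  constructor
  · intro hh r
    obtain ⟨a, x, hx, ha⟩ := monoCol_surj σ p r
    obtain ⟨c, hc⟩ := hh a
    have hr : (Pi.single r 1 : Fin m ⊕ Fin m → F) = x⁻¹ • (g.1 *ᵥ Pi.single a 1) := by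
      rw [hg, ha, ← Pi.single_smul, smul_eq_mul, inv_mul_cancel₀ hx]
    refine ⟨c, ?_⟩
    calc (g * h * g⁻¹).1 *ᵥ Pi.single r 1 = x⁻¹ • ((g * h * g⁻¹ * g).1 *ᵥ Pi.single a 1) := by
          rw [hr, mulVec_smul, mulVec_mulVec, ← Submonoid.coe_mul]
      _ = x⁻¹ • (g.1 *ᵥ (c • Pi.single a 1)) := by
          rw [inv_mul_cancel_right, Submonoid.coe_mul, ← mulVec_mulVec, hc]
      _ = c • Pi.single r 1 := by rw [mulVec_smul, smul_comm, ← hr]
  · intro hh a
    obtain ⟨r, x, hx, ha⟩ := monoCol_smul σ p a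
    obtain ⟨c, hc⟩ := hh r
    refine ⟨c, (toEquiv m F g).injective ?_⟩
    show g.1 *ᵥ (h.1 *ᵥ Pi.single a 1) = g.1 *ᵥ (c • Pi.single a 1)
    have h1 : g.1 *ᵥ Pi.single a 1 = x • Pi.single r 1 := by
      rw [hg, ha, ← Pi.single_smul, smul_eq_mul, mul_one]
    calc g.1 *ᵥ (h.1 *ᵥ Pi.single a 1) = (g * h * g⁻¹ * g).1 *ᵥ Pi.single a 1 := by
          rw [inv_mul_cancel_right, Submonoid.coe_mul, ← mulVec_mulVec]
      _ = (g * h * g⁻¹).1 *ᵥ (x • Pi.single r 1) := by rw [Submonoid.coe_mul, ← mulVec_mulVec, h1]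
      _ = g.1 *ᵥ (c • Pi.single a 1) := by rw [mulVec_smul, hc, mulVec_smul, h1, smul_comm]

theorem card_normalizer_torus [Fintype F] {q : ℕ} (hF : Fintype.card F = q) (hq : 4 ≤ q) (m : ℕ) :
    Nat.card ↥(Subgroup.normalizer (torus m F : Set (symplecticGroup (Fin m) F)))
      = 2 ^ m * Nat.factorial m * (q - 1) ^ m := by
  classical
  let f : Equiv.Perm (Fin m) × (Fin m → Bool × Fˣ) →
      ↥(Subgroup.normalizer (torus m F : Set (symplecticGroup (Fin m) F))) :=
    fun x => ⟨⟨monoMat x.1 x.2, monoMat_mem x.1 x.2⟩, mem_normalizer_of_monomial x.1 x.2⟩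
  have hf : Function.Bijective f := by
    constructor
    · rintro ⟨σ, p⟩ ⟨σ', p'⟩ h
      have hcol : ∀ i r, monoCol σ p (.inl i) r = monoCol σ' p' (.inl i) r := fun i r =>
        congrFun (congrFun (congrArg (fun z => z.1.1) h) r) (Sum.inl i)
      have key : ∀ i, σ i = σ' i ∧ p i = p' i := by
        intro i
        cases hi : (p i).1 <;> cases hi' : (p' i).1
        all_goals
          have e1 := hcol i (.inl (σ i))
          have e2 := hcol i (.inr (σ i))
          simp [monoCol, hi, hi', Pi.single_apply] at e1 e2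
        · by_cases hs : σ i = σ' i
          · simp [hs, Units.val_inj] at e1
            exact ⟨hs, Prod.ext (hi.trans hi'.symm) e1⟩
          · simp [hs] at e1
        · by_cases hs : σ i = σ' i
          · simp [hs, Units.val_inj] at e2
            exact ⟨hs, Prod.ext (hi.trans hi'.symm) e2⟩
          · simp [hs] at e2
      exact Prod.ext (Equiv.ext fun i => (key i).1) (funext fun i => (key i).2)
    · rintro ⟨g, hg⟩
      obtain ⟨a, -, ha⟩ := Finset.exists_mem_notMem_of_card_lt_card
        (s := ({0, 1, -1} : Finset F)) (t := Finset.univ) (by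
          rw [Finset.card_univ, hF]; exact lt_of_le_of_lt Finset.card_le_three (by omega))
      simp only [Finset.mem_insert, Finset.mem_singleton, not_or] at ha
      have haa : a ≠ a⁻¹ := fun h => (mul_self_eq_one_iff.mp (by
        nth_rewrite 1 [h]; exact inv_mul_cancel₀ ha.1)).elim ha.2.1 ha.2.2
      have supp : ∀ c : Fin m ⊕ Fin m, ∃ r x, x ≠ 0 ∧ g.1 *ᵥ Pi.single c 1 = Pi.single r x := by
        intro c
        have hne : g.1 *ᵥ Pi.single c 1 ≠ 0 := fun h => by
          have := (toEquiv m F g).injective (a₁ := Pi.single c 1) (a₂ := 0) (by simp [h])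
          simp at this
        obtain ⟨r, hr⟩ := Function.ne_iff.mp hne
        refine ⟨r, (g.1 *ᵥ Pi.single c 1) r, hr, funext fun s => ?_⟩
        by_cases hsr : s = r
        · subst hsr; simp
        rw [Pi.single_eq_of_ne hsr]
        by_contra hs0
        let idx : Fin m ⊕ Fin m → Fin m := Sum.elim id id
        let t : Fin m → Fˣ := fun i => if i = idx r then Units.mk0 a ha.1 else 1
        let T : symplecticGroup (Fin m) F := ⟨monoMat 1 (fun i => (false, t i)), monoMat_mem _ _⟩
        let tv : Fin m ⊕ Fin m → F := Sum.elim (fun i => (t i : F)) (fun i => ((t i)⁻¹ : Fˣ))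
        have hTe : ∀ e, T.1 *ᵥ Pi.single e 1 = tv e • Pi.single e 1 := by
          intro e
          show monoMat 1 _ *ᵥ _ = _
          rw [monoMat_mulVec_single, ← Pi.single_smul, smul_eq_mul, mul_one]
          rcases e with e | e <;> simp [monoCol, tv]
        have hT : T ∈ torus m F := mem_torus_iff.mpr fun e => ⟨tv e, hTe e⟩
        obtain ⟨d, hd⟩ := mem_torus_iff.mp
          ((Subgroup.mem_normalizer_iff'' (H := torus m F)).mp hg T |>.mp hT) c
        have hd' : T.1 *ᵥ (g.1 *ᵥ Pi.single c 1) = d • (g.1 *ᵥ Pi.single c 1) := by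
          rw [← mulVec_smul, ← hd, mulVec_mulVec, mulVec_mulVec, ← Submonoid.coe_mul, ← Submonoid.coe_mul,
            mul_assoc g⁻¹, mul_inv_cancel_left]
        have hTv : ∀ e, (T.1 *ᵥ (g.1 *ᵥ Pi.single c 1)) e = tv e * (g.1 *ᵥ Pi.single c 1) e := by
          intro e
          rw [mulVec, dotProduct, Finset.sum_eq_single e (fun b _ hb => ?_) (by simp)]
          · congr 1
            simpa using congrFun (hTe e) e
          · have : T.1 e b = 0 := by simpa [Pi.single_eq_of_ne hb.symm] using congrFun (hTe b) e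
            rw [this, zero_mul]
        have e1 : tv r = d := mul_right_cancel₀ hr (by rw [← hTv, hd']; rfl)
        have e2 : tv s = d := mul_right_cancel₀ hs0 (by rw [← hTv, hd']; rfl)
        rw [← e2] at e1
        rcases r with r | r <;> rcases s with s | s
        · have : s ≠ r := fun h => hsr (by rw [h])
          simp [tv, t, idx, this] at e1
          exact ha.2.1 e1
        · by_cases hsr' : s = r
          · simp [tv, t, idx, hsr'] at e1; exact haa e1
          · simp [tv, t, idx, hsr'] at e1; exact ha.2.1 e1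
        · by_cases hsr' : s = r
          · simp [tv, t, idx, hsr'] at e1; exact haa e1.symm
          · simp [tv, t, idx, hsr'] at e1; exact ha.2.1 e1
        · have : s ≠ r := fun h => hsr (by rw [h])
          simp [tv, t, idx, this] at e1
          exact ha.2.1 e1
      choose π x hx hπ using supp
      have hform : ∀ c d, sympForm m F (Pi.single (π c) (x c)) (Pi.single (π d) (x d))
          = sympForm m F (Pi.single c 1) (Pi.single d 1) := fun c d => by
        rw [← hπ, ← hπ, sympForm_mulVec]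
      have pair : ∀ i, (∃ r, π (.inl i) = .inl r ∧ π (.inr i) = .inr r ∧ x (.inr i) = (x (.inl i))⁻¹) ∨
          (∃ r, π (.inl i) = .inr r ∧ π (.inr i) = .inl r ∧ x (.inr i) = -(x (.inl i))⁻¹) := by
        intro i
        have h := hform (.inr i) (.inl i)
        rw [sympForm_single_single, sympForm_single_single] at h
        have hx0 := hx (.inl i)
        rcases hl : π (.inl i) with r | r <;> rcases hr : π (.inr i) with s | s <;>
          simp [hl, hr, J, Matrix.one_apply] at h
        · obtain rfl : r = s := by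
            by_contra hne; simp [hne, Ne.symm hne] at h
          simp at h
          exact .inl ⟨r, rfl, rfl, by field_simp; linear_combination h⟩
        · obtain rfl : r = s := by
            by_contra hne; simp [hne, Ne.symm hne] at h
          simp at h
          exact .inr ⟨r, rfl, rfl, by field_simp; linear_combination -h⟩
      let σ0 : Fin m → Fin m := fun i => Sum.elim id id (π (.inl i))
      have hinj : Function.Injective σ0 := by
        intro i j hij
        have h1 := hform (.inr i) (.inl j)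
        rw [sympForm_single_single, sympForm_single_single] at h1
        have h2 := hform (.inl i) (.inl j)
        rw [sympForm_single_single, sympForm_single_single] at h2
        by_contra hne
        rcases pair i with ⟨r, hr1, hr2, -⟩ | ⟨r, hr1, hr2, -⟩ <;>
          rcases pair j with ⟨s, hs1, hs2, -⟩ | ⟨s, hs1, hs2, -⟩ <;>
          simp [σ0, hr1, hs1] at hij <;> subst hij <;>
          simp [hr1, hr2, hs1, J, Matrix.one_apply, hne, Ne.symm hne, hx] at h1 h2
      refine ⟨⟨Equiv.ofBijective σ0 (Finite.injective_iff_bijective.mp hinj),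
        fun i => ((π (.inl i)).isRight, Units.mk0 (x (.inl i)) (hx _))⟩, ?_⟩
      refine Subtype.ext (Subtype.ext (Matrix.ext_of_mulVec_single fun c => ?_))
      show monoMat _ _ *ᵥ _ = g.1 *ᵥ _
      rw [monoMat_mulVec_single, hπ]
      rcases c with i | i
      · rcases pair i with ⟨r, h1, -, -⟩ | ⟨r, h1, -, -⟩ <;> simp [monoCol, σ0, h1]
      · rcases pair i with ⟨r, h1, h2, h3⟩ | ⟨r, h1, h2, h3⟩ <;> simp [monoCol, σ0, h1, h2, h3]
  rw [← Nat.card_congr (Equiv.ofBijective f hf), Nat.card_prod, Nat.card_perm, Nat.card_fin, Nat.card_fun,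
    Nat.card_fin, Nat.card_prod, Nat.card_units, Nat.card_eq_fintype_card, Fintype.card_bool,
    Nat.card_eq_fintype_card, hF, mul_pow]
  ring

end CfsgLib.Sp
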