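import Mathlib
import Cfsg.Agent.Lib.Sp.Group
import Cfsg.Agent.Lib.Sp.Decomp
import Cfsg.Agent.S0752

/-!
Elements of `Sp_{2m}` with square `±1` in odd characteristic, and the resulting bound on the number of classes of
involutions of `PSp_{2m}`.
-/

set_option autoImplicit false
set_option linter.unusedSectionVars false

namespace CfsgLib.SpInvClasses

open Matrix
open LinearMap (BilinForm)
open CfsgLib.Sp (alt_flip)

section Abstract

variable {F : Type*} [Field F]

theorem even_finrank {V : Type*} [AddCommGroup V] [Module F V] [FiniteDimensional F V] (B : BilinForm F V)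
    (hA : B.IsAlt) (hB : LinearMap.SeparatingLeft B) : ∃ k, Module.finrank F V = 2 * k := by
  obtain ⟨k, r, b, -, -, -, h4⟩ := Cfsg.Agent.S0752.result B hA
  rcases Nat.eq_zero_or_pos r with rfl | hr
  · refine ⟨k, ?_⟩
    rw [Module.finrank_eq_card_basis b]
    simp; omega
  · exact absurd (hB _ (h4 ⟨0, hr⟩)) (b.ne_zero _)

variable [Fintype F] (h2 : (2 : F) ≠ 0)

include h2 in
theorem exists_two_sq (c : F) : ∃ x y : F, x ^ 2 + y ^ 2 = c := by
  classical
  obtain ⟨a, b, hab⟩ := FiniteField.exists_root_sum_quadratic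
    (f := Polynomial.X ^ 2 - Polynomial.C c) (g := (Polynomial.X : Polynomial F) ^ 2)
    (Polynomial.degree_X_pow_sub_C two_pos c) (Polynomial.degree_X_pow 2)
    (Nat.odd_iff.1 (Nat.odd_iff.2 (FiniteField.odd_card_of_char_ne_two (by
      intro hch
      have : CharP F 2 := ringChar.of_eq hch
      exact h2 (CharTwo.two_eq_zero)))))
  simp only [Polynomial.eval_sub, Polynomial.eval_pow, Polynomial.eval_X, Polynomial.eval_C] at hab
  exact ⟨a, b, by linear_combination hab⟩

include h2 in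
/-- An isometry with square `-1` has a vector pairing to one with its image. -/
theorem exists_anti_value {V : Type*} [AddCommGroup V] [Module F V] (B : BilinForm F V)
    (hA : B.IsAlt) (hB : LinearMap.SeparatingLeft B) (g : V →ₗ[F] V)
    (hgB : ∀ u v, B (g u) (g v) = B u v) (hg2 : ∀ v, g (g v) = -v) (hne : ∃ v : V, v ≠ 0) :
    ∃ v, B v (g v) = 1 := by
  have hsym : ∀ u v, B u (g v) = B v (g u) := by
    intro u v
    rw [← hgB u (g v), hg2, map_neg, ← alt_flip hA (g u) v]
  obtain ⟨v, hv⟩ : ∃ v, B v (g v) ≠ 0 := by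
    by_contra h
    push Not at h
    obtain ⟨w, hw⟩ := hne
    apply hw
    refine hB w fun y => ?_
    have hy : B w (g (-g y)) = 0 := by
      have h1 := h (w + -g y)
      simp only [map_add, LinearMap.add_apply, h w, h (-g y), hsym (-g y) w] at h1
      have : (2 : F) * B w (g (-g y)) = 0 := by linear_combination h1
      exact (mul_eq_zero.1 this).resolve_left h2
    rwa [map_neg, hg2, neg_neg] at hy
  set a := B v (g v) with ha
  obtain ⟨x, y, hxy⟩ := exists_two_sq h2 a⁻¹
  refine ⟨x • v + y • g v, ?_⟩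
  simp only [map_add, map_smul, LinearMap.add_apply, LinearMap.smul_apply, smul_eq_mul, hg2, map_neg,
    hA v, hA (g v)]
  rw [alt_flip hA v (g v), ← ha]
  have : (x ^ 2 + y ^ 2) * a = 1 := by rw [hxy, inv_mul_cancel₀ hv]
  linear_combination this

include h2 in
theorem exists_anti_frame : ∀ (d : ℕ) {V : Type*} [AddCommGroup V] [Module F V] [FiniteDimensional F V]
    (B : BilinForm F V), B.IsAlt → LinearMap.SeparatingLeft B → ∀ g : V →ₗ[F] V,
    (∀ u v, B (g u) (g v) = B u v) → (∀ v, g (g v) = -v) → Module.finrank F V = d →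
    ∃ (k : ℕ) (v : Fin k → V), d = 2 * k ∧ ∀ i j, B (v i) (v j) = 0 ∧
      B (v i) (g (v j)) = if i = j then 1 else 0 := by
  intro d
  induction d using Nat.strong_induction_on with
  | _ d ih =>
  intro V _ _ _ B hA hB g hgB hg2 hd
  rcases Nat.eq_zero_or_pos d with rfl | hpos
  · exact ⟨0, Fin.elim0, rfl, fun i => i.elim0⟩
  have : Nontrivial V := Module.nontrivial_of_finrank_pos (R := F) (hd ▸ hpos)
  obtain ⟨v, hv⟩ := exists_anti_value h2 B hA hB g hgB hg2 (exists_ne 0)
  have hgv : B (g v) v = -1 := by rw [alt_flip hA v (g v), hv]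
  let f : V →ₗ[F] F × F := (B v).prod (B (g v))
  let U := LinearMap.ker f
  have hfs : LinearMap.range f = ⊤ := by
    rw [LinearMap.range_eq_top]
    rintro ⟨s, t⟩
    refine ⟨(-t) • v + s • g v, ?_⟩
    simp [f, hA v, hA (g v), hv, hgv]
  have hU : Module.finrank F U + 2 = d := by
    have h := LinearMap.finrank_range_add_finrank_ker f
    rw [hfs, finrank_top, Module.finrank_prod, Module.finrank_self, hd] at h
    change Module.finrank F (LinearMap.ker f) + 2 = d
    omega
  have hmem : ∀ x, x ∈ U ↔ B v x = 0 ∧ B (g v) x = 0 := fun x => by simp [U, f]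
  have hinv : ∀ x ∈ U, g x ∈ U := by
    intro x hx
    rw [hmem] at hx ⊢
    refine ⟨?_, by rw [hgB]; exact hx.1⟩
    rw [← hgB v (g x), hg2, map_neg, hx.2, neg_zero]
  let BU : BilinForm F U := B.restrict U
  have hBU : LinearMap.SeparatingLeft BU := by
    intro x hx
    apply Subtype.ext
    refine hB _ fun y => ?_
    have hx' := (hmem _).1 x.2
    have hxv : B (x : V) v = 0 := by rw [alt_flip hA v, hx'.1, neg_zero]
    have hxgv : B (x : V) (g v) = 0 := by rw [alt_flip hA (g v), hx'.2, neg_zero]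
    have hy : y + B (g v) y • v - B v y • g v ∈ U := by
      rw [hmem]
      constructor <;> simp [hA v, hA (g v), hv, hgv]
    have h : B (x : V) (y + B (g v) y • v - B v y • g v) = 0 := hx ⟨_, hy⟩
    simpa [hxv, hxgv] using h
  obtain ⟨k, w, hk, hw⟩ := ih (Module.finrank F U) (by omega) BU (fun x => hA x) hBU
    (g.restrict hinv) (fun x y => hgB _ _) (fun x => Subtype.ext (hg2 _)) rfl
  refine ⟨k + 1, Fin.cons v fun i => (w i : V), by omega, ?_⟩
  intro i j
  have hwU : ∀ i, B v (w i : V) = 0 ∧ B (g v) (w i : V) = 0 := fun i => (hmem _).1 (w i).2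
  have hwgU : ∀ i, B v (g (w i : V)) = 0 ∧ B (g v) (g (w i : V)) = 0 := fun i =>
    (hmem _).1 (hinv _ (w i).2)
  refine Fin.cases ?_ (fun i => ?_) i <;> refine Fin.cases ?_ (fun j => ?_) j
  · simp [hA v, hv]
  · simp [hwU j, hwgU j, eq_comm (a := (0 : Fin (k + 1))), Fin.succ_ne_zero]
  · have h1 : B (w i : V) v = 0 := by rw [alt_flip hA v, (hwU i).1, neg_zero]
    have h2' : B (w i : V) (g v) = 0 := by rw [alt_flip hA (g v), (hwU i).2, neg_zero]
    simp [h1, h2', Fin.succ_ne_zero]
  · have := hw i j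
    simpa [BU, LinearMap.restrict_apply, Fin.succ_inj] using this

include h2 in
theorem anti_conj {V : Type*} [AddCommGroup V] [Module F V] [FiniteDimensional F V] (B : BilinForm F V)
    (hA : B.IsAlt) (hB : LinearMap.SeparatingLeft B) (g h : V →ₗ[F] V)
    (hgB : ∀ u v, B (g u) (g v) = B u v) (hhB : ∀ u v, B (h u) (h v) = B u v)
    (hg2 : ∀ v, g (g v) = -v) (hh2 : ∀ v, h (h v) = -v) :
    ∃ T : V ≃ₗ[F] V, (∀ u v, B (T u) (T v) = B u v) ∧ ∀ v, T (g v) = h (T v) := by
  classical
  have key : ∀ g : V →ₗ[F] V, (∀ u v, B (g u) (g v) = B u v) → (∀ v, g (g v) = -v) →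
      ∀ k (v : Fin k → V), Module.finrank F V = 2 * k → (∀ i j, B (v i) (v j) = 0 ∧
      B (v i) (g (v j)) = if i = j then 1 else 0) →
      ∃ b : Module.Basis (Fin k ⊕ Fin k) F V, (∀ i, b (.inl i) = v i) ∧ (∀ i, b (.inr i) = g (v i)) ∧
        ∀ i j, B (b i) (b j) = Sum.elim
          (fun i => Sum.elim (fun _ => (0 : F)) (fun j => if i = j then 1 else 0) j)
          (fun i => Sum.elim (fun j => if i = j then -1 else 0) (fun _ => 0) j) i := by
    intro g hgB hg2 k v hdim hv
    have hgram : ∀ i j, B (Sum.elim v (g ∘ v) i) (Sum.elim v (g ∘ v) j) = Sum.elim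
        (fun i => Sum.elim (fun _ => (0 : F)) (fun j => if i = j then 1 else 0) j)
        (fun i => Sum.elim (fun j => if i = j then -1 else 0) (fun _ => 0) j) i := by
      rintro (i | i) (j | j)
      · exact (hv i j).1
      · exact (hv i j).2
      · show B (g (v i)) (v j) = if i = j then -1 else 0
        rw [alt_flip hA (v j), (hv j i).2]
        split_ifs with h1 h2 h2 <;> simp_all
      · show B (g (v i)) (g (v j)) = 0
        rw [hgB]; exact (hv i j).1
    have hli : LinearIndependent F (Sum.elim v (g ∘ v)) := by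
      rw [Fintype.linearIndependent_iff]
      intro c hc l
      rcases l with i | i
      · have := congrArg (fun x => B x (g (v i))) hc
        simpa [Fintype.sum_sum_type, hgB, fun j => (hv j i).1, fun j => (hv j i).2] using this
      · have := congrArg (fun x => B (v i) x) hc
        simpa [Fintype.sum_sum_type, fun j => (hv i j).1, fun j => (hv i j).2] using this
    refine ⟨basisOfLinearIndependentOfCardEqFinrank' _ hli (by simp [hdim]; omega), ?_, ?_, ?_⟩
    · intro i; simp
    · intro i; simp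
    · intro i j; simpa using hgram i j
  obtain ⟨k, v, hk, hv⟩ := exists_anti_frame h2 _ B hA hB g hgB hg2 rfl
  obtain ⟨k', w, hk', hw⟩ := exists_anti_frame h2 _ B hA hB h hhB hh2 rfl
  obtain rfl : k = k' := by omega
  obtain ⟨b, hbl, hbr, hbB⟩ := key g hgB hg2 k v hk hv
  obtain ⟨c, hcl, hcr, hcB⟩ := key h hhB hh2 k w hk hw
  refine ⟨b.equiv c (Equiv.refl _), fun x y => ?_, fun x => ?_⟩
  · have hh : B.compl₁₂ (b.equiv c (Equiv.refl _)).toLinearMap (b.equiv c (Equiv.refl _)).toLinearMap = B :=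
      b.ext fun i => b.ext fun j => by simp [hbB, hcB]
    exact LinearMap.congr_fun (LinearMap.congr_fun hh x) y
  · have hh : (b.equiv c (Equiv.refl _)).toLinearMap.comp g = h.comp (b.equiv c (Equiv.refl _)).toLinearMap := by
      refine b.ext fun i => ?_
      simp only [LinearMap.comp_apply, LinearEquiv.coe_coe, b.equiv_apply]
      rcases i with i | i
      · rw [hbl, ← hbr, b.equiv_apply]
        simp [hcr, hcl]
      · rw [hbr, hg2, map_neg, ← hbl, b.equiv_apply]
        simp [hcr, hcl, hh2]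
    exact LinearMap.congr_fun hh x

include h2 in
/-- The two eigenspaces of an isometric involution, in standard coordinates. -/
theorem inv_decomp {V : Type*} [AddCommGroup V] [Module F V] [FiniteDimensional F V] (B : BilinForm F V)
    (hA : B.IsAlt) (hB : LinearMap.SeparatingLeft B) (g : V →ₗ[F] V)
    (hgB : ∀ u v, B (g u) (g v) = B u v) (hg2 : ∀ v, g (g v) = v) :
    ∃ (a c : ℕ) (e : ((Fin a ⊕ Fin a → F) × (Fin c ⊕ Fin c → F)) ≃ₗ[F] V),
      Module.finrank F (LinearMap.ker (g - LinearMap.id)) = 2 * a ∧ Module.finrank F V = 2 * a + 2 * c ∧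
      (∀ x y, B (e x) (e y) = Cfsg.sympForm a F x.1 y.1 + Cfsg.sympForm c F x.2 y.2) ∧
      ∀ x, g (e x) = e (x.1, -x.2) := by
  set W := LinearMap.ker (g - LinearMap.id) with hW
  set U := LinearMap.ker (g + LinearMap.id) with hU
  have hWm : ∀ x, x ∈ W ↔ g x = x := fun x => by simp [hW, sub_eq_zero]
  have hUm : ∀ x, x ∈ U ↔ g x = -x := fun x => by simp [hU, add_eq_zero_iff_eq_neg]
  have horth : ∀ w ∈ W, ∀ u ∈ U, B w u = 0 := by
    intro w hw u hu
    have h := hgB w u
    rw [(hWm w).1 hw, (hUm u).1 hu, map_neg] at h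
    have : (2 : F) * B w u = 0 := by linear_combination -h
    exact (mul_eq_zero.1 this).resolve_left h2
  have horth' : ∀ w ∈ W, ∀ u ∈ U, B u w = 0 := fun w hw u hu => by
    rw [alt_flip hA w, horth w hw u hu, neg_zero]
  have hc : IsCompl W U := by
    constructor
    · rw [Submodule.disjoint_def]
      intro x hx hx'
      have h := ((hWm x).1 hx).symm.trans ((hUm x).1 hx')
      have : (2 : F) • x = 0 := by rw [two_smul]; nth_rewrite 1 [h]; exact neg_add_cancel x
      exact (smul_eq_zero.1 this).resolve_left h2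
    · rw [codisjoint_iff, Submodule.eq_top_iff']
      intro x
      refine Submodule.mem_sup.2 ⟨(2 : F)⁻¹ • (x + g x), ?_, (2 : F)⁻¹ • (x - g x), ?_, ?_⟩
      · rw [hWm, map_smul, map_add, hg2, add_comm]
      · rw [hUm, map_smul, map_sub, hg2, ← smul_neg, neg_sub]
      · rw [← smul_add, show (x + g x) + (x - g x) = (2 : F) • x by rw [two_smul]; abel, smul_smul,
          inv_mul_cancel₀ h2, one_smul]
  let P := Submodule.prodEquivOfIsCompl W U hc
  have hBW : LinearMap.SeparatingLeft (B.restrict W) := by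
    intro x hx
    apply Subtype.ext
    refine hB _ fun y => ?_
    obtain ⟨⟨w, u⟩, rfl⟩ := P.surjective y
    have h : B (x : V) (w : V) = 0 := hx w
    simp [P, h, horth _ x.2 _ u.2]
  have hBU : LinearMap.SeparatingLeft (B.restrict U) := by
    intro x hx
    apply Subtype.ext
    refine hB _ fun y => ?_
    obtain ⟨⟨w, u⟩, rfl⟩ := P.surjective y
    have h : B (x : V) (u : V) = 0 := hx u
    simp [P, h, horth' _ w.2 _ x.2]
  obtain ⟨a, ha⟩ := even_finrank (B.restrict W) (fun x => hA x) hBW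
  obtain ⟨c, hcc⟩ := even_finrank (B.restrict U) (fun x => hA x) hBU
  obtain ⟨eW, heW⟩ := CfsgLib.Sp.exists_std_equiv (B.restrict W) (fun x => hA x) hBW ha
  obtain ⟨eU, heU⟩ := CfsgLib.Sp.exists_std_equiv (B.restrict U) (fun x => hA x) hBU hcc
  refine ⟨a, c, (eW.prodCongr eU).trans P, ha, ?_, ?_, ?_⟩
  · have := Submodule.finrank_add_eq_of_isCompl hc
    omega
  · intro x y
    have h1 := heW x.1 y.1
    have h2' := heU x.2 y.2
    simp only [LinearMap.BilinForm.restrict_apply] at h1 h2'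
    simp [P, horth _ (eW x.1).2 _ (eU y.2).2, horth' _ (eW y.1).2 _ (eU x.2).2, ← h1, ← h2']
  · intro x
    simp [P, (hWm _).1 (eW x.1).2, (hUm _).1 (eU x.2).2]

include h2 in
theorem inv_conj {V : Type*} [AddCommGroup V] [Module F V] [FiniteDimensional F V] (B : BilinForm F V)
    (hA : B.IsAlt) (hB : LinearMap.SeparatingLeft B) (g h : V →ₗ[F] V)
    (hgB : ∀ u v, B (g u) (g v) = B u v) (hhB : ∀ u v, B (h u) (h v) = B u v)
    (hg2 : ∀ v, g (g v) = v) (hh2 : ∀ v, h (h v) = v)
    (hdim : Module.finrank F (LinearMap.ker (g - LinearMap.id)) =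
      Module.finrank F (LinearMap.ker (h - LinearMap.id))) :
    ∃ T : V ≃ₗ[F] V, (∀ u v, B (T u) (T v) = B u v) ∧ ∀ v, T (g v) = h (T v) := by
  obtain ⟨a, c, e, ha, hV, heB, heg⟩ := inv_decomp h2 B hA hB g hgB hg2
  obtain ⟨a', c', e', ha', hV', heB', heg'⟩ := inv_decomp h2 B hA hB h hhB hh2
  obtain rfl : a = a' := by omega
  obtain rfl : c = c' := by omega
  refine ⟨e.symm.trans e', fun u v => ?_, fun v => ?_⟩
  · obtain ⟨x, rfl⟩ := e.surjective u
    obtain ⟨y, rfl⟩ := e.surjective v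
    simp [heB, heB']
  · obtain ⟨x, rfl⟩ := e.surjective v
    simp [heg, heg']

end Abstract

section Group

set_option linter.unusedSectionVars false

variable {F : Type*} [Field F] [Fintype F] {m : ℕ}

/-- The fixed space of a symplectic matrix. -/
noncomputable def fixSpace (A : symplecticGroup (Fin m) F) : Submodule F (Fin m ⊕ Fin m → F) :=
  LinearMap.ker ((CfsgLib.Sp.toEquiv m F A).toLinearMap - LinearMap.id)

theorem isConj_mk (A A' T : symplecticGroup (Fin m) F) (h : T * A = A' * T) :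
    IsConj (QuotientGroup.mk A : Cfsg.PSp m F) (QuotientGroup.mk A') := by
  refine isConj_iff.2 ⟨QuotientGroup.mk T, ?_⟩
  rw [← QuotientGroup.mk_mul, h, QuotientGroup.mk_mul, mul_inv_cancel_right]

theorem isConj_of_anti (h2 : (2 : F) ≠ 0) (A A' : symplecticGroup (Fin m) F)
    (hA : A.1 * A.1 = -1) (hA' : A'.1 * A'.1 = -1) :
    IsConj (QuotientGroup.mk A : Cfsg.PSp m F) (QuotientGroup.mk A') := by
  have key : ∀ A : symplecticGroup (Fin m) F, A.1 * A.1 = -1 → ∀ v,
      (CfsgLib.Sp.toEquiv m F A).toLinearMap ((CfsgLib.Sp.toEquiv m F A).toLinearMap v) = -v := by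
    intro A hA v
    simp [Matrix.mulVec_mulVec, hA, Matrix.neg_mulVec]
  obtain ⟨T, hT, hTc⟩ := anti_conj h2 _ CfsgLib.Sp.sympBilin_isAlt CfsgLib.Sp.sympBilin_separatingLeft _ _
    (CfsgLib.Sp.toEquiv_mem_isom A) (CfsgLib.Sp.toEquiv_mem_isom A') (key A hA) (key A' hA')
  obtain ⟨T', rfl⟩ := CfsgLib.Sp.exists_toEquiv_eq hT
  refine isConj_mk A A' T' (CfsgLib.Sp.toEquiv_injective (LinearEquiv.ext fun v => ?_))
  rw [map_mul, map_mul]
  exact hTc v

theorem isConj_of_inv (h2 : (2 : F) ≠ 0) (A A' : symplecticGroup (Fin m) F)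
    (hA : A.1 * A.1 = 1) (hA' : A'.1 * A'.1 = 1)
    (hd : Module.finrank F (fixSpace A) = Module.finrank F (fixSpace A')) :
    IsConj (QuotientGroup.mk A : Cfsg.PSp m F) (QuotientGroup.mk A') := by
  have key : ∀ A : symplecticGroup (Fin m) F, A.1 * A.1 = 1 → ∀ v,
      (CfsgLib.Sp.toEquiv m F A).toLinearMap ((CfsgLib.Sp.toEquiv m F A).toLinearMap v) = v := by
    intro A hA v
    simp [Matrix.mulVec_mulVec, hA]
  obtain ⟨T, hT, hTc⟩ := inv_conj h2 _ CfsgLib.Sp.sympBilin_isAlt CfsgLib.Sp.sympBilin_separatingLeft _ _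
    (CfsgLib.Sp.toEquiv_mem_isom A) (CfsgLib.Sp.toEquiv_mem_isom A') (key A hA) (key A' hA') hd
  obtain ⟨T', rfl⟩ := CfsgLib.Sp.exists_toEquiv_eq hT
  refine isConj_mk A A' T' (CfsgLib.Sp.toEquiv_injective (LinearEquiv.ext fun v => ?_))
  rw [map_mul, map_mul]
  exact hTc v

/-- Involutions of `PSp_{2m}` fall into `m / 2 + 1` classes. -/
theorem exists_label (h2 : (2 : F) ≠ 0) (x : Cfsg.PSp m F) (hx1 : x ≠ 1) (hx2 : x * x = 1) :
    ∃ l, l ≤ m / 2 ∧ ∃ A : symplecticGroup (Fin m) F, QuotientGroup.mk A = x ∧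
      ((l = 0 ∧ A.1 * A.1 = -1) ∨ (A.1 * A.1 = 1 ∧ 0 < l ∧ Module.finrank F (fixSpace A) = 2 * l)) := by
  obtain ⟨A, rfl⟩ := QuotientGroup.mk_surjective x
  rw [← QuotientGroup.mk_mul, QuotientGroup.eq_one_iff, CfsgLib.Sp.mem_center_iff] at hx2
  rw [Ne, QuotientGroup.eq_one_iff, CfsgLib.Sp.mem_center_iff, not_or] at hx1
  rcases hx2 with h | h
  swap
  · exact ⟨0, Nat.zero_le _, A, rfl, Or.inl ⟨rfl, h⟩⟩
  have h' : A.1 * A.1 = 1 := h
  have hg2 : ∀ v, (CfsgLib.Sp.toEquiv m F A).toLinearMap ((CfsgLib.Sp.toEquiv m F A).toLinearMap v) = v := by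
    intro v; simp [Matrix.mulVec_mulVec, h']
  obtain ⟨a, c, e, ha, hV, -, heg⟩ := inv_decomp h2 _ CfsgLib.Sp.sympBilin_isAlt
    CfsgLib.Sp.sympBilin_separatingLeft _ (CfsgLib.Sp.toEquiv_mem_isom A) hg2
  have hm : a + c = m := by
    rw [Module.finrank_fintype_fun_eq_card] at hV
    simp at hV; omega
  have hA1 : ∀ (s : F), (∀ x, (CfsgLib.Sp.toEquiv m F A).toLinearMap (e x) = s • e x) →
      A.1 = s • 1 := by
    intro s hs
    refine Matrix.toLin'.injective (LinearMap.ext fun v => ?_)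
    obtain ⟨x, rfl⟩ := e.surjective v
    simpa using hs x
  have ha0 : a ≠ 0 := by
    rintro rfl
    apply hx1.2
    rw [hA1 (-1) fun x => ?_, neg_one_smul]
    rw [heg, show (x.1, -x.2) = (-1 : F) • x from Prod.ext (Subsingleton.elim _ _) (by simp), map_smul]
  have hc0 : c ≠ 0 := by
    rintro rfl
    apply hx1.1
    rw [hA1 1 fun x => ?_, one_smul]
    rw [heg, one_smul, show (x.1, -x.2) = x from Prod.ext rfl (Subsingleton.elim _ _)]
  by_cases hle : a ≤ m / 2
  · exact ⟨a, hle, A, rfl, Or.inr ⟨h', Nat.pos_of_ne_zero ha0, ha⟩⟩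
  set N : symplecticGroup (Fin m) F := ⟨-A.1, by
    have := SymplecticGroup.mem_iff.1 A.2
    rw [SymplecticGroup.mem_iff]
    simp [Matrix.transpose_neg, this]⟩ with hN
  refine ⟨c, by omega, N, ?_, Or.inr ⟨by simp [hN, h'], Nat.pos_of_ne_zero hc0, ?_⟩⟩
  · rw [QuotientGroup.eq, CfsgLib.Sp.mem_center_iff]
    right
    rw [Submonoid.coe_mul]
    have : (N⁻¹ : symplecticGroup (Fin m) F) = N := inv_eq_of_mul_eq_one_right (Subtype.ext (by simp [hN, h']))
    rw [this]
    simp [hN, h']
  · have hmap : fixSpace N = Submodule.map e.toLinearMap (LinearMap.ker (LinearMap.fst F _ _)) := by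
      ext v
      obtain ⟨x, rfl⟩ := e.surjective v
      rw [Submodule.mem_map_equiv, LinearEquiv.symm_apply_apply]
      have : (CfsgLib.Sp.toEquiv m F N) (e x) = -e (x.1, -x.2) := by
        rw [← heg]
        simp [hN, Matrix.neg_mulVec]
      simp only [fixSpace, LinearMap.mem_ker, LinearMap.sub_apply, LinearEquiv.coe_coe, this,
        LinearMap.id_apply, LinearMap.fst_apply, sub_eq_zero]
      rw [← map_neg, e.injective.eq_iff, Prod.ext_iff]
      simp only [Prod.fst_neg, Prod.snd_neg, neg_neg, and_true]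
      constructor
      · intro hh
        have : (2 : F) • x.1 = 0 := by rw [two_smul]; nth_rewrite 1 [← hh]; exact neg_add_cancel _
        exact (smul_eq_zero.1 this).resolve_left h2
      · intro hh; rw [hh, neg_zero]
    rw [hmap, LinearEquiv.finrank_map_eq, LinearMap.ker_fst,
      LinearMap.finrank_range_of_inj LinearMap.inr_injective, Module.finrank_fintype_fun_eq_card]
    simp; omega

theorem exists_isConj (h2 : (2 : F) ≠ 0) {κ : Type*} [Fintype κ] (hκ : m / 2 + 1 < Fintype.card κ)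
    (x : κ → Cfsg.PSp m F) (hx1 : ∀ i, x i ≠ 1) (hx2 : ∀ i, x i * x i = 1) :
    ∃ i j, i ≠ j ∧ IsConj (x i) (x j) := by
  choose l hl A hA hAl using fun i => exists_label h2 (x i) (hx1 i) (hx2 i)
  obtain ⟨i, -, j, -, hne, heq⟩ := Finset.exists_ne_map_eq_of_card_lt_of_maps_to
    (s := (Finset.univ : Finset κ)) (t := Finset.range (m / 2 + 1)) (by simpa using hκ)
    (f := l) (fun i _ => by have := hl i; simp; omega)
  refine ⟨i, j, hne, ?_⟩
  rw [← hA i, ← hA j]
  rcases hAl i with ⟨hi, hsi⟩ | ⟨hsi, hi, hdi⟩ <;> rcases hAl j with ⟨hj, hsj⟩ | ⟨hsj, hj, hdj⟩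
  · exact isConj_of_anti h2 _ _ hsi hsj
  · omega
  · omega
  · exact isConj_of_inv h2 _ _ hsi hsj (by omega)

end Group

end CfsgLib.SpInvClasses
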