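/-
Stabilisers in symplectic matrix groups: totally isotropic subspaces and flags, and the normaliser of the torus.
-/
import Mathlib
import Cfsg.Agent.Lib.Sp.Card
import Cfsg.Agent.Lib.GLStab.Basic

set_option autoImplicit false

namespace CfsgLib.Sp

open Cfsg Matrix

variable {F : Type*} [Field F] {m : ℕ}

theorem mem_stabilizing_of_subset {W : Submodule F (Fin m ⊕ Fin m → F)} {A : symplecticGroup (Fin m) F}
    (h : ∀ v ∈ W, A.1 *ᵥ v ∈ W) : A ∈ stabilizing (spToMat m F) (W : Set (Fin m ⊕ Fin m → F)) := by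
  have heq : W.map (toEquiv m F A).toLinearMap = W :=
    Submodule.eq_of_le_of_finrank_eq (Submodule.map_le_iff_le_comap.mpr h)
      (LinearEquiv.finrank_map_eq _ _)
  intro v
  refine ⟨h v, fun hv => ?_⟩
  have hv' : toEquiv m F A v ∈ W := hv
  rw [← heq] at hv'
  obtain ⟨u, hu, huv⟩ := hv'
  rw [← (toEquiv m F A).injective huv]
  exact hu

theorem tupleStab_le_stabilizing {k : ℕ} (x : Fin k → Fin m ⊕ Fin m → F) (W : Submodule F (Fin m ⊕ Fin m → F))
    (hx : Submodule.span F (Set.range x) = W) :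
    tupleStab x ≤ stabilizing (spToMat m F) (W : Set (Fin m ⊕ Fin m → F)) := by
  intro A hA
  refine mem_stabilizing_of_subset fun v hv => ?_
  rw [← hx] at hv ⊢
  induction hv using Submodule.span_induction with
  | mem v hv => obtain ⟨i, rfl⟩ := hv; rw [hA i]; exact Submodule.subset_span ⟨i, rfl⟩
  | zero => rw [mulVec_zero]; exact zero_mem _
  | add u v _ _ hu hv => rw [mulVec_add]; exact add_mem hu hv
  | smul c v _ hv => rw [mulVec_smul]; exact Submodule.smul_mem _ c hv

section Finite

variable [Fintype F] {q : ℕ}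

/-- `|Stab W| · #(isotropic k-tuples) = |Sp| · |GL_k|`. -/
theorem card_stab_isotropic_mul (hF : Fintype.card F = q) {k : ℕ} (W : Submodule F (Fin m ⊕ Fin m → F))
    (hWk : Module.finrank F W = k) (hW : ∀ u ∈ W, ∀ v ∈ W, sympForm m F u v = 0) :
    Nat.card (stabilizing (spToMat m F) (W : Set (Fin m ⊕ Fin m → F))) * Nat.card (isoTuples m F k)
      = Nat.card (symplecticGroup (Fin m) F) * ∏ i : Fin k, (q ^ k - q ^ (i : ℕ)) := by
  classical
  let b := Module.finBasisOfFinrankEq F W hWk
  let x : Fin k → Fin m ⊕ Fin m → F := fun i => (b i : Fin m ⊕ Fin m → F)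
  have hli : LinearIndependent F x := b.linearIndependent.map' W.subtype (Submodule.ker_subtype W)
  have hspan : Submodule.span F (Set.range x) = W := by
    have : Set.range x = W.subtype '' Set.range b := by rw [← Set.range_comp]; rfl
    rw [this, ← Submodule.map_span, b.span_eq, Submodule.map_top, Submodule.range_subtype]
  have hx : x ∈ isoTuples m F k := ⟨hli, fun i j => hW _ (b i).2 _ (b j).2⟩
  set H := stabilizing (spToMat m F) (W : Set (Fin m ⊕ Fin m → F))
  let S : Set (Fin k → Fin m ⊕ Fin m → F) := {y | LinearIndependent F y ∧ ∀ i, y i ∈ W}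
  have hHS : Nat.card H = Nat.card S * Nat.card ((tupleStab x).subgroupOf H) := by
    refine CfsgLib.ClassicalGroups.natCard_eq_image_mul _ (fun A i => A.1.1 *ᵥ x i) S (fun A B => ?_)
      (fun A => ?_) (fun y hy => ?_)
    · rw [Subgroup.mem_subgroupOf]
      constructor
      · intro h i
        rw [Subgroup.coe_mul, Subgroup.coe_inv, Submonoid.coe_mul, ← mulVec_mulVec, ← congrFun h i,
          mulVec_mulVec, ← Submonoid.coe_mul, inv_mul_cancel, Submonoid.coe_one, one_mulVec]
      · intro h; funext i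
        have h' := h i
        rw [Subgroup.coe_mul, Subgroup.coe_inv] at h'
        conv_lhs => rw [← h', mulVec_mulVec, ← Submonoid.coe_mul, mul_inv_cancel_left]
    · exact ⟨hli.map' (toEquiv m F A.1).toLinearMap (LinearEquiv.ker _), fun i => (A.2 _).mp (b i).2⟩
    · obtain ⟨A, hA⟩ := witt_matrix x y hli hy.1 (fun i j => by
        rw [hW _ (b i).2 _ (b j).2, hW _ (hy.2 i) _ (hy.2 j)])
      refine ⟨⟨A, mem_stabilizing_of_subset fun v hv => ?_⟩, funext hA⟩
      rw [← hspan] at hv
      induction hv using Submodule.span_induction with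
      | mem v hv => obtain ⟨i, rfl⟩ := hv; rw [hA i]; exact hy.2 i
      | zero => rw [mulVec_zero]; exact zero_mem _
      | add u v _ _ hu hv => rw [mulVec_add]; exact add_mem hu hv
      | smul c v _ hv => rw [mulVec_smul]; exact Submodule.smul_mem _ c hv
  have hS : Nat.card S = ∏ i : Fin k, (q ^ k - q ^ (i : ℕ)) := by
    have e : S ≃ {s : Fin k → W // LinearIndependent F s} :=
      { toFun := fun y => ⟨fun i => ⟨y.1 i, y.2.2 i⟩, LinearIndependent.of_comp W.subtype y.2.1⟩
        invFun := fun s => ⟨fun i => (s.1 i : Fin m ⊕ Fin m → F),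
          s.2.map' W.subtype (Submodule.ker_subtype W), fun i => (s.1 i).2⟩
        left_inv := fun _ => rfl
        right_inv := fun _ => rfl }
    rw [Nat.card_congr e, card_linearIndependent hWk.ge, hWk, hF]
  rw [hHS, hS, Nat.card_congr (Subgroup.subgroupOfEquivOfLe (tupleStab_le_stabilizing x W hspan)).toEquiv,
    card_eq_isoTuples_mul hx]
  ring

/-- The order of the stabiliser of a totally isotropic subspace. -/
theorem card_stab_isotropic (hF : Fintype.card F = q) {k : ℕ} (hk : k ≤ m)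
    (W : Submodule F (Fin m ⊕ Fin m → F))
    (hWk : Module.finrank F W = k) (hW : ∀ u ∈ W, ∀ v ∈ W, sympForm m F u v = 0) :
    Nat.card (stabilizing (spToMat m F) (W : Set (Fin m ⊕ Fin m → F)))
      = q ^ (k * (k + 1) / 2 + 2 * k * (m - k))
        * (q ^ ((m - k) ^ 2) * ∏ i ∈ Finset.range (m - k), (q ^ (2 * (i + 1)) - 1))
        * ∏ i : Fin k, (q ^ k - q ^ (i : ℕ)) := by
  have h := card_stab_isotropic_mul hF W hWk hW
  rw [card_isoTuples hF, prod_isoTuples q m k hk, card_symplecticGroup hF, prod_split q m k hk] at h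
  have hq : 1 < q := hF ▸ Fintype.one_lt_card
  have hP : 0 < ∏ i ∈ Finset.range k, (q ^ (2 * (m - i)) - 1) := Finset.prod_pos fun i hi => by
    have : 1 < q ^ (2 * (m - i)) := Nat.one_lt_pow (by rw [Finset.mem_range] at hi; omega) hq
    omega
  have hexp : m ^ 2 = k * (k + 1) / 2 + 2 * k * (m - k) + (m - k) ^ 2 + k.choose 2 := by
    obtain ⟨j, rfl⟩ : ∃ j, m = k + j := ⟨m - k, by omega⟩
    rw [Nat.add_sub_cancel_left]
    have h2 : k * (k + 1) / 2 = (k + 1).choose 2 := by rw [Nat.choose_two_right, mul_comm]; simp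
    rw [h2]
    have := choose_two_succ_add k
    nlinarith [this, sq (k + j), sq j]
  rw [hexp, pow_add, pow_add] at h
  refine Nat.eq_of_mul_eq_mul_right (Nat.mul_pos (pow_pos (by omega : 0 < q) (k.choose 2)) hP) ?_
  rw [h]; ring

/-- The order of the stabiliser of the standard isotropic flag. -/
theorem card_stab_flag (hF : Fintype.card F = q) (m : ℕ) :
    Nat.card ↥(⨅ k : Fin m, stabilizing (spToMat m F) {v : Fin m ⊕ Fin m → F |
      (∀ i : Fin m, (k : ℕ) < (i : ℕ) → v (Sum.inl i) = 0) ∧ ∀ i : Fin m, v (Sum.inr i) = 0})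
      = q ^ (m ^ 2) * (q - 1) ^ m := by
  classical
  let Tri := {M : Matrix (Fin m) (Fin m) F // (∀ i j, j < i → M i j = 0) ∧ ∀ i, M i i ≠ 0}
  let Sym := {S : Matrix (Fin m) (Fin m) F // Sᵀ = S}
  have hdet : ∀ M : Tri, M.1.det ≠ 0 := fun M => by
    rw [det_of_isUpperTriangular (fun i j h => M.2.1 i j h), Finset.prod_ne_zero_iff]
    exact fun i _ => M.2.2 i
  have hmem : ∀ p : Tri × Sym, fromBlocks p.1.1 (p.1.1 * p.2.1) 0 (p.1.1⁻¹)ᵀ ∈ symplecticGroup (Fin m) F := by
    intro p
    have hu : IsUnit p.1.1.det := (hdet p.1).isUnit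
    refine SymplecticGroup.fromBlocks_mem_iff.mpr ⟨by simp, ?_, ?_⟩
    · rw [transpose_mul, transpose_transpose, Matrix.mul_assoc, ← transpose_mul, nonsing_inv_mul _ hu,
        transpose_one, Matrix.mul_one, p.2.2, ← Matrix.mul_assoc, nonsing_inv_mul _ hu, Matrix.one_mul]
    · rw [transpose_zero, Matrix.zero_mul, sub_zero, ← transpose_mul, nonsing_inv_mul _ hu, transpose_one]
  set H := ⨅ k : Fin m, stabilizing (spToMat m F) {v : Fin m ⊕ Fin m → F |
      (∀ i : Fin m, (k : ℕ) < (i : ℕ) → v (Sum.inl i) = 0) ∧ ∀ i : Fin m, v (Sum.inr i) = 0}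
  have hin : ∀ A : symplecticGroup (Fin m) F, A ∈ H ↔
      A.1.toBlocks₂₁ = 0 ∧ ∀ i j : Fin m, j < i → A.1.toBlocks₁₁ i j = 0 := by
    intro A
    simp only [H, Subgroup.mem_iInf]
    constructor
    · intro h
      have hcol : ∀ j : Fin m, (∀ i, j < i → A.1 (Sum.inl i) (Sum.inl j) = 0) ∧
          ∀ i, A.1 (Sum.inr i) (Sum.inl j) = 0 := fun j => by
        have := (h j (Pi.single (Sum.inl j) 1)).mp
          ⟨fun i hi => Pi.single_eq_of_ne (by intro e; cases e; omega) _, fun i => by simp⟩
        simpa using this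
      exact ⟨by ext i j; exact (hcol j).2 i, fun i j hij => (hcol j).1 i hij⟩
    · rintro ⟨h21, h11⟩ k
      let W : Submodule F (Fin m ⊕ Fin m → F) :=
        { carrier := {v | (∀ i : Fin m, (k : ℕ) < (i : ℕ) → v (Sum.inl i) = 0) ∧ ∀ i : Fin m, v (Sum.inr i) = 0}
          add_mem' := fun {u v} hu hv => ⟨fun i hi => by simp [hu.1 i hi, hv.1 i hi], fun i => by simp [hu.2 i, hv.2 i]⟩
          zero_mem' := ⟨fun _ _ => rfl, fun _ => rfl⟩
          smul_mem' := fun c v hv => ⟨fun i hi => by simp [hv.1 i hi], fun i => by simp [hv.2 i]⟩ }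
      refine mem_stabilizing_of_subset (W := W) fun v hv => ⟨fun i hi => ?_, fun i => ?_⟩
      · simp only [mulVec, dotProduct, Fintype.sum_sum_type, hv.2, mul_zero, Finset.sum_const_zero, add_zero]
        refine Finset.sum_eq_zero fun j _ => ?_
        by_cases hj : (k : ℕ) < (j : ℕ)
        · rw [hv.1 j hj, mul_zero]
        · have : A.1 (Sum.inl i) (Sum.inl j) = 0 := h11 i j (by rw [Fin.lt_def]; omega)
          rw [this, zero_mul]
      · simp only [mulVec, dotProduct, Fintype.sum_sum_type, hv.2, mul_zero, Finset.sum_const_zero, add_zero]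
        refine Finset.sum_eq_zero fun j _ => ?_
        have : A.1 (Sum.inr i) (Sum.inl j) = 0 := congrFun (congrFun h21 i) j
        rw [this, zero_mul]
  let f : Tri × Sym → H := fun p => ⟨⟨_, hmem p⟩, (hin _).mpr ⟨rfl, p.1.2.1⟩⟩
  have hf : Function.Bijective f := by
    constructor
    · rintro ⟨A, S⟩ ⟨A', S'⟩ h
      obtain ⟨h1, h2, -⟩ := fromBlocks_inj.mp (congrArg (fun g : H => g.1.1) h)
      have hA : A = A' := Subtype.ext h1
      subst hA
      have h3 : S.1 = S'.1 := by
        have := congrArg (fun M => A.1⁻¹ * M) h2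
        simpa [← Matrix.mul_assoc, nonsing_inv_mul _ (hdet A).isUnit] using this
      rw [Subtype.ext h3]
    · intro g
      obtain ⟨h21, h11⟩ := (hin g.1).mp g.2
      have hg := g.1.2
      rw [← fromBlocks_toBlocks g.1.1, h21, SymplecticGroup.fromBlocks_mem_iff] at hg
      obtain ⟨-, h2, h3⟩ := hg
      rw [transpose_zero, Matrix.zero_mul, sub_zero] at h3
      set A := g.1.1.toBlocks₁₁
      set B := g.1.1.toBlocks₁₂
      set D := g.1.1.toBlocks₂₂
      have h3' : Dᵀ * A = 1 := by simpa [transpose_mul] using congrArg Matrix.transpose h3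
      have hAdet : A.det ≠ 0 := fun h0 => by
        have := congrArg det h3'
        rw [det_mul, h0, mul_zero, det_one] at this
        exact zero_ne_one this
      have hdiag : ∀ i, A i i ≠ 0 := fun i => by
        rw [det_of_isUpperTriangular (fun i j h => h11 i j h), Finset.prod_ne_zero_iff] at hAdet
        exact hAdet i (Finset.mem_univ i)
      have hDA : A⁻¹ = Dᵀ := inv_eq_left_inv h3'
      refine ⟨⟨⟨A, h11, hdiag⟩, ⟨A⁻¹ * B, ?_⟩⟩, Subtype.ext (Subtype.ext ?_)⟩
      · rw [transpose_mul, hDA, transpose_transpose, h2]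
      · show fromBlocks A (A * (A⁻¹ * B)) 0 (A⁻¹)ᵀ = g.1.1
        rw [← Matrix.mul_assoc, mul_nonsing_inv _ hAdet.isUnit, Matrix.one_mul, hDA, transpose_transpose]
        conv_rhs => rw [← fromBlocks_toBlocks g.1.1, h21]
  rw [← Nat.card_congr (Equiv.ofBijective f hf), Nat.card_prod, CfsgLib.GLStab.card_triangular hF,
    card_symmetric hF, mul_right_comm, ← pow_add, ← Nat.choose_two_right, choose_two_succ_add]

end Finite

end CfsgLib.Sp
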